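import Cfsg.Agent.Lib.Invol.JTwoType.Local
import Cfsg.Agent.Lib.Invol.JTwo.Concrete
import Cfsg.Agent.Lib.Coprime.Core
import Cfsg.Prelude.Def_CaseTheorems

/-!
# The centraliser of a central involution for a Sylow two-subgroup of Hall-Janko type
-/

set_option autoImplicit false
set_option linter.style.haveILetI false
set_option maxRecDepth 100000

namespace CfsgLib.Invol.JTwoType

open Subgroup

universe u

theorem center_code : ∀ x : Fin 128, (∀ y : Fin 128, Com x y) → x = 0 ∨ x = 1 := by decide +kernel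

variable {G : Type u} [Group G] [Finite G]

/-- the centre of `S` as a code -/
theorem eq_center {S : Subgroup G} (c : Coord S) {z : G} (hz : orderOf z = 2) (hzS : z ∈ S)
    (hzc : ∀ s ∈ S, s * z = z * s) : c.ι 1 = z := by
  obtain ⟨x, rfl⟩ := c.surj z hzS
  rcases center_code x fun y => c.com_iff.2 (hzc _ (c.mem y)).symm with rfl | rfl
  · rw [c.map_zero, orderOf_one] at hz; norm_num at hz
  · rfl

/-- The centraliser modulo its odd core, with coordinates, a fusion and a central involution. -/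
theorem exists_quotient_coord (S : Sylow 2 G) (c : Coord (S : Subgroup G))
    (h2 : ∀ H : Subgroup G, H.Normal → H.index ≠ 2) :
    ∃ (SK : Sylow 2 (↥(centralizer ({c.ι 1} : Set G)) ⧸ Cfsg.oddCore ↥(centralizer ({c.ι 1} : Set G))))
      (cK : Coord (SK : Subgroup (↥(centralizer ({c.ι 1} : Set G)) ⧸
          Cfsg.oddCore ↥(centralizer ({c.ι 1} : Set G))))),
      (∀ g, g * cK.ι 1 = cK.ι 1 * g) ∧
      ∃ k, k * cK.ι 2 * k⁻¹ = cK.ι 30 ∨ k * cK.ι 2 * k⁻¹ = cK.ι 31 := by
  classical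
  haveI : Fact (Nat.Prime 2) := ⟨Nat.prime_two⟩
  obtain ⟨k, hk1, hk⟩ := fuse_in_centralizer S c h2
  set C := centralizer ({c.ι 1} : Set G) with hC
  have hSC : (S : Subgroup G) ≤ C := fun s hs => by
    obtain ⟨x, rfl⟩ := c.surj s hs
    exact mem_centralizer_singleton_iff.2 (c.com_iff.1 (one_facts x).1)
  set O := Cfsg.oddCore ↥C with hO
  haveI : O.Normal := by
    haveI := CfsgLib.Coprime.pPrimeCore_characteristic (G := ↥C) 2
    infer_instance
  let q : ↥C →* ↥C ⧸ O := QuotientGroup.mk' O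
  let SC : Sylow 2 ↥C := S.subtype hSC
  let SK : Sylow 2 (↥C ⧸ O) := SC.mapSurjective (f := q) (QuotientGroup.mk'_surjective O)
  have hcore : ∀ x : Fin 128, q ⟨c.ι x, hSC (c.mem x)⟩ = 1 → x = 0 := by
    intro x hx
    have hmem : (⟨c.ι x, hSC (c.mem x)⟩ : ↥C) ∈ O := (QuotientGroup.eq_one_iff _).1 hx
    obtain ⟨j, hj⟩ := (SC.2.to_le le_rfl) ⟨⟨c.ι x, hSC (c.mem x)⟩, c.mem x⟩
    have hd : orderOf (⟨c.ι x, hSC (c.mem x)⟩ : ↥C) ∣ Nat.gcd (2 ^ j) (Nat.card ↥O) :=
      Nat.dvd_gcd (orderOf_dvd_of_pow_eq_one (congrArg Subtype.val hj)) (O.orderOf_dvd_natCard hmem)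
    have hco : Nat.Coprime (2 ^ j) (Nat.card ↥O) :=
      Nat.Coprime.pow_left _ (CfsgLib.Coprime.pPrimeCore_coprime (G := ↥C) Nat.prime_two).symm
    rw [hco, Nat.dvd_one, orderOf_eq_one_iff] at hd
    exact c.eq_one_iff.1 (congrArg Subtype.val hd)
  let cK : Coord (SK : Subgroup (↥C ⧸ O)) :=
    { ι := fun x => q ⟨c.ι x, hSC (c.mem x)⟩
      inj := fun x y h => by
        have e : q ⟨c.ι (mulF x (invF y)), hSC (c.mem _)⟩ = 1 := by
          rw [show (⟨c.ι (mulF x (invF y)), hSC (c.mem _)⟩ : ↥C) =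
            ⟨c.ι x, hSC (c.mem x)⟩ * (⟨c.ι y, hSC (c.mem y)⟩ : ↥C)⁻¹ from
              Subtype.ext ((c.map_mul x (invF y)).trans (congrArg (c.ι x * ·) (c.map_inv y))),
            _root_.map_mul, _root_.map_inv]
          exact mul_inv_eq_one.2 h
        have e2 := congrArg c.ι (hcore _ e)
        rw [c.map_mul, c.map_inv, c.map_zero, mul_inv_eq_one] at e2
        exact c.inj e2
      mem := fun x => ⟨⟨c.ι x, hSC (c.mem x)⟩, c.mem x, rfl⟩
      surj := by
        rintro _ ⟨s, hs, rfl⟩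
        obtain ⟨x, hx⟩ := c.surj s.1 hs
        exact ⟨x, congrArg q (Subtype.ext hx)⟩
      map_mul := fun x y => by
        rw [← _root_.map_mul]
        exact congrArg q (Subtype.ext (c.map_mul x y)) }
  refine ⟨SK, cK, fun g => ?_, q ⟨k, mem_centralizer_singleton_iff.2 (mul_inv_eq_iff_eq_mul.1 hk1)⟩, ?_⟩
  · obtain ⟨g, rfl⟩ := QuotientGroup.mk'_surjective O g
    show q g * q _ = q _ * q g
    rw [← _root_.map_mul, ← _root_.map_mul]
    exact congrArg q (Subtype.ext (mem_centralizer_singleton_iff.1 g.2))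
  · refine hk.imp (fun e => ?_) fun e => ?_
    all_goals
      show q _ * q _ * (q _)⁻¹ = q _
      rw [← _root_.map_inv, ← _root_.map_mul, ← _root_.map_mul]
      exact congrArg q (Subtype.ext e)

end CfsgLib.Invol.JTwoType
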