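import Cfsg.Agent.Lib.Invol.JTwoType.Model
import Cfsg.Agent.Lib.Fusion.System.JTwoTwoSimple

/-!
# Coordinates on a two-group isomorphic to a Sylow two-subgroup of the Hall-Janko group
-/

set_option autoImplicit false
set_option maxRecDepth 100000
set_option linter.style.haveILetI false

namespace CfsgLib.Invol.JTwoType

open CfsgLib.Fusion.JTwoTwo CfsgLib.Char.J2

universe u

/-- Coordinates on a subgroup. -/
structure Coord {G : Type u} [Group G] (S : Subgroup G) where
  /-- the map from the model -/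
  ι : Fin 128 → G
  inj : Function.Injective ι
  mem : ∀ x, ι x ∈ S
  surj : ∀ s ∈ S, ∃ x, ι x = s
  map_mul : ∀ x y, ι (mulF x y) = ι x * ι y

namespace Coord

variable {G : Type u} [Group G] {S : Subgroup G} (c : Coord S)
include c

theorem map_zero : c.ι 0 = 1 := by
  have h := c.map_mul 0 0
  rwa [zero_mul_code, eq_comm, mul_eq_left] at h

theorem map_inv (x : Fin 128) : c.ι (invF x) = (c.ι x)⁻¹ :=
  eq_inv_of_mul_eq_one_right (by rw [← c.map_mul, inv_facts, c.map_zero])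

theorem map_cj (y x : Fin 128) : c.ι (cjF y x) = c.ι y * c.ι x * (c.ι y)⁻¹ := by
  rw [cjF, c.map_mul, c.map_mul, c.map_inv]

theorem com_iff {x y : Fin 128} : Com x y ↔ c.ι x * c.ι y = c.ι y * c.ι x := by
  rw [← c.map_mul, ← c.map_mul, c.inj.eq_iff]

theorem eq_one_iff {x : Fin 128} : c.ι x = 1 ↔ x = 0 := by rw [← c.map_zero, c.inj.eq_iff]

theorem sq_iff {x : Fin 128} : c.ι x * c.ι x = 1 ↔ mulF x x = 0 := by
  rw [← c.map_mul, c.eq_one_iff]

/-- transport along an isomorphism -/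
noncomputable def transfer {H : Type*} [Group H] {R : Subgroup H} (e : ↥S ≃* ↥R) : Coord R where
  ι x := e ⟨c.ι x, c.mem x⟩
  inj x y h := c.inj (congrArg Subtype.val (e.injective (Subtype.ext h)))
  mem x := (e _).2
  surj r hr := by
    obtain ⟨x, hx⟩ := c.surj _ (e.symm ⟨r, hr⟩).2
    exact ⟨x, by simp [hx]⟩
  map_mul x y := by
    rw [← Subgroup.coe_mul, ← _root_.map_mul]
    exact congrArg (fun s => ((e s : ↥R) : H)) (Subtype.ext (c.map_mul x y))

theorem card_eq : Nat.card ↥S = 128 := by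
  rw [← Nat.card_congr (Equiv.ofBijective (fun x : Fin 128 => (⟨c.ι x, c.mem x⟩ : ↥S))
    ⟨fun x y h => c.inj (congrArg Subtype.val h), fun s => ?_⟩), Nat.card_fin]
  obtain ⟨x, hx⟩ := c.surj s.1 s.2
  exact ⟨x, Subtype.ext hx⟩

end Coord

/-- the images of the model -/
def jmap : List ℕ := [0, 5, 7, 46, 72, 59, 125, 74, 33, 94, 109, 99, 1, 17, 19, 3, 31, 37, 90, 22, 106, 115, 98, 105, 126, 127, 123, 67, 57, 62, 10, 49, 6, 45, 56, 73, 52, 13, 124, 78, 36, 88, 96, 38, 21, 89, 86, 23, 92, 29, 18, 2, 102, 108, 25, 91, 63, 121, 70, 61, 11, 50, 48, 9, 81, 87, 40, 97, 65, 69, 51, 12, 95, 35, 30, 27, 116, 84, 83, 44, 79, 64, 104, 82, 42, 24, 68, 43, 15, 54, 34, 60, 66, 39, 103, 117, 113, 120, 77, 112, 71, 26, 41, 58, 53, 14, 93, 32, 110, 114, 76, 101, 75, 107, 122, 118, 20, 4, 80, 28, 8, 47, 55, 16, 85, 100, 119, 111]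

/-- the images of the generators as words -/
def genWords : List (List ℕ) := [[0, 0], [2, 0], [0, 1, 2, 1], [1, 2, 1], [2, 1, 1], [1, 0], [3, 2, 1, 2]]

/-- the image index of a code -/
def jm (x : Fin 128) : ℕ := jmap.getD x.1 0

/-- left multiplication by a word -/
def wordStp (w : List ℕ) (q : ℕ) : ℕ := w.foldr stp q

theorem jmap_check : jmap.length = 128 ∧ jmap.Nodup ∧ (∀ q ∈ jmap, q < 128) ∧ jm 0 = 0 ∧
    ∀ k : Fin 7, (∀ i ∈ genWords.getD k.1 [], i < 4) ∧
      (k.1 ∈ [1, 5, 6] → ∀ x : Fin 128,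
        wordStp (genWords.getD k.1 []) (jm x) = jm (mulF ⟨2 ^ k.1 % 128, Nat.mod_lt _ (by norm_num)⟩ x)) := by
  decide +kernel

theorem model_gens : ∀ x : Fin 128, x = 0 ∨ ∃ k : Fin 7, ∃ y : Fin 128, y < x ∧
    mulF ⟨2 ^ k.1 % 128, Nat.mod_lt _ (by norm_num)⟩ y = x := by decide +kernel

theorem model_bits : (4 : Fin 128) = mulF (mulF 32 2) 32 ∧ (8 : Fin 128) = mulF (mulF 64 2) 64 ∧
    (16 : Fin 128) = mulF (mulF 64 4) 64 ∧ (1 : Fin 128) = mulF (mulF 2 4) (mulF 2 4) ∧
    ∀ x : Fin 128, mulF x 0 = x := by decide +kernel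

theorem model_assoc : ∀ g : Fin 128, g = 2 ∨ g = 32 ∨ g = 64 → ∀ x y : Fin 128,
    mulF (mulF g x) y = mulF g (mulF x y) := by decide +kernel

/-- the image of a code -/
noncomputable def jelt (x : Fin 128) : ↥P100 := sQ (jm x)

theorem jm_lt (x : Fin 128) : jm x < 128 := by
  have h : x.1 < jmap.length := by rw [jmap_check.1]; exact x.2
  rw [jm, List.getD_eq_getElem _ _ h]
  exact jmap_check.2.2.1 _ (List.getElem_mem h)

theorem jelt_zero : jelt 0 = 1 := by rw [jelt, jmap_check.2.2.2.1, sQ_zero]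

theorem word_mul : ∀ (w : List ℕ), (∀ i ∈ w, i < 4) → ∀ q < 128,
    (w.map fun i => sQ (i + 1)).prod * sQ q = sQ (wordStp w q) ∧ wordStp w q < 128
  | [], _, q, hq => ⟨one_mul _, hq⟩
  | i :: w, hw, q, hq => by
    obtain ⟨e, h⟩ := word_mul w (fun j hj => hw j (List.mem_cons_of_mem _ hj)) q hq
    obtain ⟨e', h'⟩ := step (hw i List.mem_cons_self) h
    refine ⟨?_, h'⟩
    rw [List.map_cons, List.prod_cons, mul_assoc, e, e']
    rfl

/-- a left factor for which the map is multiplicative -/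
def Good (a : Fin 128) : Prop :=
  ∀ x y : Fin 128, jelt (mulF a x) = jelt a * jelt x ∧ mulF (mulF a x) y = mulF a (mulF x y)

theorem good_gen {g : Fin 128} (hg : g = 2 ∨ g = 32 ∨ g = 64) : Good g := by
  refine fun x y => ⟨?_, model_assoc g hg x y⟩
  obtain ⟨k, hk, rfl⟩ : ∃ k : Fin 7, k.1 ∈ [1, 5, 6] ∧
      g = ⟨2 ^ k.1 % 128, Nat.mod_lt _ (by norm_num)⟩ := by
    rcases hg with rfl | rfl | rfl
    · exact ⟨1, by decide, rfl⟩
    · exact ⟨5, by decide, rfl⟩
    · exact ⟨6, by decide, rfl⟩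
  obtain ⟨-, -, -, -, hw⟩ := jmap_check
  obtain ⟨h4, hx⟩ := hw k
  have key : ∀ z : Fin 128, jelt (mulF ⟨2 ^ k.1 % 128, Nat.mod_lt _ (by norm_num)⟩ z) =
      ((genWords.getD k.1 []).map fun i => sQ (i + 1)).prod * jelt z := fun z => by
    rw [jelt, jelt, (word_mul _ h4 _ (jm_lt z)).1, hx hk z]
  have h0 := key 0
  rw [jelt_zero, mul_one, model_bits.2.2.2.2] at h0
  rw [key, h0]

theorem good_mul {a b : Fin 128} (ha : Good a) (hb : Good b) : Good (mulF a b) := by
  intro x y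
  refine ⟨?_, ?_⟩
  · rw [(ha b x).2, (ha (mulF b x) 0).1, (hb x 0).1, (ha b 0).1, mul_assoc]
  · rw [(ha b x).2, (ha (mulF b x) y).2, (hb x y).2, (ha b (mulF x y)).2]

theorem good_all (x : Fin 128) : Good x := by
  have g2 : Good 2 := good_gen (Or.inl rfl)
  have g32 : Good 32 := good_gen (Or.inr (Or.inl rfl))
  have g64 : Good 64 := good_gen (Or.inr (Or.inr rfl))
  obtain ⟨e4, e8, e16, e1, -⟩ := model_bits
  have g4 : Good 4 := e4 ▸ good_mul (good_mul g32 g2) g32
  have g8 : Good 8 := e8 ▸ good_mul (good_mul g64 g2) g64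
  have g16 : Good 16 := e16 ▸ good_mul (good_mul g64 g4) g64
  have g1 : Good 1 := e1 ▸ good_mul (good_mul g2 g4) (good_mul g2 g4)
  have gk : ∀ k : Fin 7, Good ⟨2 ^ k.1 % 128, Nat.mod_lt _ (by norm_num)⟩ := by
    intro k; fin_cases k
    exacts [g1, g2, g4, g8, g16, g32, g64]
  induction x using WellFoundedLT.induction with
  | _ x ih =>
    rcases model_gens x with rfl | ⟨k, y, hy, rfl⟩
    · exact fun a b => ⟨by rw [zero_mul_code, jelt_zero, one_mul], by rw [zero_mul_code, zero_mul_code]⟩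
    · exact good_mul (gk k) (ih y hy)

theorem jelt_injective : Function.Injective jelt := by
  intro x y h
  have h' := el_injective (facts.1 _ (jm_lt x)) (facts.1 _ (jm_lt y)) h
  have h2 : jm x = jm y := List.inj_on_of_nodup_map facts.2.1 (List.mem_range.2 (jm_lt x))
    (List.mem_range.2 (jm_lt y)) h'
  have hx : x.1 < jmap.length := by rw [jmap_check.1]; exact x.2
  have hy : y.1 < jmap.length := by rw [jmap_check.1]; exact y.2
  rw [jm, jm, List.getD_eq_getElem _ _ hx, List.getD_eq_getElem _ _ hy,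
    jmap_check.2.1.getElem_inj_iff] at h2
  exact Fin.ext h2

/-- The coordinates of the standard Sylow subgroup. -/
noncomputable def stdCoord : Coord syl2 where
  ι := jelt
  inj := jelt_injective
  mem x := sQ_mem _ (jm_lt x)
  surj s hs := by
    haveI : Fintype ↥syl2 := Fintype.ofFinite _
    obtain ⟨x, hx⟩ := ((Fintype.bijective_iff_injective_and_card _).2
      ⟨show Function.Injective fun x : Fin 128 => (⟨jelt x, sQ_mem _ (jm_lt x)⟩ : ↥syl2) from
        fun x y h => jelt_injective (congrArg Subtype.val h),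
      by rw [Fintype.card_fin, ← Nat.card_eq_fintype_card, card_syl]⟩).2 ⟨s, hs⟩
    exact ⟨x, congrArg Subtype.val hx⟩
  map_mul x y := (good_all x y 0).1

theorem exists_coord {G : Type u} [Group G] (S : Subgroup G) (P : Sylow 2 Cfsg.Spor.J2)
    (hS : Nonempty (↥S ≃* ↥(P : Subgroup Cfsg.Spor.J2))) : Nonempty (Coord S) := by
  haveI : Fact (Nat.Prime 2) := ⟨Nat.prime_two⟩
  haveI : Finite ↥P100 := Nat.finite_of_card_ne_zero (by rw [card_P100]; norm_num)
  haveI : Finite Cfsg.Spor.J2 := Finite.of_equiv _ equivP100.symm.toEquiv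
  obtain ⟨eS⟩ := hS
  set R := (P : Subgroup Cfsg.Spor.J2).map equivP100.toMonoidHom with hR
  have hfac : (Nat.card ↥P100).factorization 2 = 7 := by
    rw [card_P100, show (604800 : ℕ) = 2 ^ 7 * 4725 by norm_num,
      Nat.factorization_mul (by norm_num) (by norm_num), Nat.factorization_pow, Finsupp.add_apply,
      Finsupp.smul_apply, Nat.Prime.factorization_self Nat.prime_two,
      Nat.factorization_eq_zero_of_not_dvd (by norm_num)]
    rfl
  let e1 : ↥(P : Subgroup Cfsg.Spor.J2) ≃* ↥R :=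
    Subgroup.equivMapOfInjective _ _ equivP100.injective
  let T : Sylow 2 ↥P100 := Sylow.ofCard R (by
    rw [← Nat.card_congr e1.toEquiv, P.card_eq_multiplicity, Nat.card_congr equivP100.toEquiv])
  let T' : Sylow 2 ↥P100 := Sylow.ofCard syl2 (by rw [card_syl, hfac]; rfl)
  have e2 : ↥syl2 ≃* ↥R := Sylow.equiv T' T
  exact ⟨stdCoord.transfer ((e2.trans e1.symm).trans eS.symm)⟩

end CfsgLib.Invol.JTwoType
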