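import Cfsg.Agent.Lib.Invol.JTwoType.Fusion
import Mathlib.GroupTheory.SpecificGroups.Alternating

/-!
# The extraspecial core of a Sylow two-subgroup of Hall-Janko type
-/

set_option autoImplicit false
set_option linter.style.haveILetI false
set_option maxRecDepth 100000

namespace CfsgLib.Invol.JTwoType

open Subgroup

universe u

variable {G : Type u} [Group G]

/-- the five singular points of the core, each up to the central involution -/
def ptF : Fin 5 → Fin 128 := ![2, 4, 8, 16, 30]

theorem core_mul : ∀ x y : Fin 128, x.1 < 32 → y.1 < 32 → (mulF x y).1 < 32 :=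
  fun x y hx hy => ((core_facts.1 x hx).2 y hy).2

theorem core_card : ((Finset.univ : Finset (Fin 128)).filter fun x => x.1 < 32).card = 32 := by
  decide +kernel

namespace Coord

variable {S : Subgroup G} (c : Coord S)
include c

/-- the extraspecial subgroup of order thirty-two -/
def core : Subgroup G := c.img (fun x => x.1 < 32) (by decide) core_mul

theorem mem_core {g : G} : g ∈ c.core ↔ ∃ x : Fin 128, x.1 < 32 ∧ c.ι x = g := Iff.rfl

theorem core_le : c.core ≤ S := c.img_le _ _

theorem card_core : Nat.card ↥c.core = 32 := (c.card_img _ _).trans core_card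

/-- agreement with a point up to the centre -/
def AtPt (g : G) (i : Fin 5) : Prop := g = c.ι (ptF i) ∨ g = c.ι (mulF 1 (ptF i))

end Coord

/-- The action of the normaliser of the core on the five points. -/
structure Pts {S : Subgroup G} (c : Coord S) where
  /-- the permutations -/
  π : ↥(normalizer (c.core : Set G)) →* Equiv.Perm (Fin 5)
  range : π.range = alternatingGroup (Fin 5)
  equi : ∀ (n : ↥(normalizer (c.core : Set G))) (i : Fin 5), c.AtPt ((n : G) * c.ι (ptF i) * (n : G)⁻¹) (π n i)
  ker : ∀ n : ↥(normalizer (c.core : Set G)), π n = 1 → ∃ q ∈ c.core, q⁻¹ * (n : G) ∈ centralizer (c.core : Set G)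
  le : S ≤ normalizer (c.core : Set G)
  outer : ∀ x : Fin 128, 32 ≤ x.1 → ∀ h : c.ι x ∈ normalizer (c.core : Set G), π ⟨c.ι x, h⟩ ≠ 1

end CfsgLib.Invol.JTwoType
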