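import Cfsg.Agent.Lib.Invol.JTwoType.Coord
import Cfsg.Agent.Lib.Fusion.Tate

/-!
# Fusion of involutions for a Sylow two-subgroup of Hall-Janko type

Without a subgroup of index two an involution of the extraspecial group outside the centraliser
of the central four-group is fused into that four-group inside the centraliser of the centre.
-/

set_option autoImplicit false
set_option linter.style.haveILetI false
set_option maxRecDepth 100000

namespace CfsgLib.Invol.JTwoType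

open Subgroup

universe u

variable {G : Type u} [Group G]

theorem cent_card : (∀ y : Fin 128, (y = 30 ∨ y = 31) →
    ((Finset.univ : Finset (Fin 128)).filter fun a => Com y a).card = 64) ∧
    (∀ y : Fin 128, InZ y → y ≠ 0 → y ≠ 1 → y = 30 ∨ y = 31) ∧
    (∀ y : Fin 128, InZ y → mulF y y = 0 ∧ InE y) ∧ mulF 2 2 = 0 ∧ IsU 2 ∧ InE 0 := by
  decide +kernel

theorem mem_conj_map {g : G} {R : Subgroup G} {x : G} :
    x ∈ R.map (MulAut.conj g).toMonoidHom ↔ g⁻¹ * x * g ∈ R := by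
  constructor
  · rintro ⟨r, hr, rfl⟩
    simpa [mul_assoc] using hr
  · intro h
    exact ⟨_, h, by simp [mul_assoc]⟩

theorem card_conj_map (g : G) (R : Subgroup G) :
    Nat.card ↥(R.map (MulAut.conj g).toMonoidHom) = Nat.card ↥R :=
  card_map_of_injective (MulEquiv.injective _)

theorem isPGroup_conj_map {g : G} {R : Subgroup G} (h : IsPGroup 2 ↥R) :
    IsPGroup 2 ↥(R.map (MulAut.conj g).toMonoidHom) := h.map _

/-- A largest two-subgroup of a centraliser absorbs all others. -/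
theorem exists_conj_into [Finite G] {v : G} {T R : Subgroup G} (hT : IsPGroup 2 ↥T)
    (hTv : T ≤ centralizer ({v} : Set G))
    (hmax : ∀ Q : Subgroup G, IsPGroup 2 ↥Q → Q ≤ centralizer ({v} : Set G) → Nat.card Q ≤ Nat.card T)
    (hR : IsPGroup 2 ↥R) (hRv : R ≤ centralizer ({v} : Set G)) :
    ∃ k : G, k * v * k⁻¹ = v ∧ ∀ r ∈ R, k * r * k⁻¹ ∈ T := by
  haveI : Fact (Nat.Prime 2) := ⟨Nat.prime_two⟩
  set C := centralizer ({v} : Set G)
  obtain ⟨P, hP⟩ := (hT.comap_subtype (K := C)).exists_le_sylow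
  obtain ⟨Q, hQ⟩ := (hR.comap_subtype (K := C)).exists_le_sylow
  obtain ⟨k, hk⟩ := MulAction.exists_smul_eq ↥C Q P
  have hPT : (P : Subgroup ↥C).map C.subtype = T := by
    refine (eq_of_le_of_card_ge (fun t ht => mem_map.2 ⟨⟨t, hTv ht⟩, hP ht, rfl⟩) ?_).symm
    exact hmax _ (P.2.map _) (map_subtype_le _)
  refine ⟨(k : G), ?_, fun r hr => ?_⟩
  · rw [mem_centralizer_singleton_iff.1 k.2, mul_inv_cancel_right]
  · rw [← hPT]
    refine ⟨k * ⟨r, hRv hr⟩ * k⁻¹, ?_, rfl⟩
    rw [← hk]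
    exact Subgroup.smul_mem_pointwise_smul _ (MulAut.conj k) _ (hQ hr)

theorem invF_mem {p : Fin 128 → Prop} (hm : ∀ x y, p x → p y → p (mulF x y)) {x : Fin 128}
    (hx : p x) : p (invF x) :=
  hm _ _ (hm _ _ (hm _ _ (hm _ _ hx hx) (hm _ _ hx hx)) (hm _ _ hx hx)) hx

namespace Coord

variable {S : Subgroup G} (c : Coord S)
include c

/-- the image of a closed set of codes -/
def img (p : Fin 128 → Prop) (h0 : p 0) (hm : ∀ x y, p x → p y → p (mulF x y)) : Subgroup G where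
  carrier := {g | ∃ x, p x ∧ c.ι x = g}
  one_mem' := ⟨0, h0, c.map_zero⟩
  mul_mem' := by
    rintro _ _ ⟨x, hx, rfl⟩ ⟨y, hy, rfl⟩
    exact ⟨_, hm x y hx hy, c.map_mul x y⟩
  inv_mem' := by
    rintro _ ⟨x, hx, rfl⟩
    exact ⟨_, invF_mem hm hx, c.map_inv x⟩

theorem img_le {p : Fin 128 → Prop} (h0 : p 0) (hm : ∀ x y, p x → p y → p (mulF x y)) :
    c.img p h0 hm ≤ S := by
  rintro _ ⟨x, -, rfl⟩
  exact c.mem x

theorem card_img {p : Fin 128 → Prop} [DecidablePred p] (h0 : p 0)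
    (hm : ∀ x y, p x → p y → p (mulF x y)) :
    Nat.card ↥(c.img p h0 hm) = ((Finset.univ : Finset (Fin 128)).filter p).card := by
  rw [← Nat.card_eq_finsetCard]
  refine (Nat.card_congr (Equiv.ofBijective
    (fun x => (⟨c.ι x.1, x.1, (Finset.mem_filter.1 x.2).2, rfl⟩ : ↥(c.img p h0 hm)))
    ⟨fun x y h => Subtype.ext (c.inj (congrArg Subtype.val h)), ?_⟩)).symm
  rintro ⟨g, x, hx, rfl⟩
  exact ⟨⟨x, Finset.mem_filter.2 ⟨Finset.mem_univ _, hx⟩⟩, rfl⟩

/-- the centraliser of the central four-group in `S` -/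
def bigE : Subgroup G := c.img InE inE_facts.2.2.2.2 inE_facts.2.1

theorem card_bigE : Nat.card ↥c.bigE = 64 := (c.card_img _ _).trans inE_facts.1

theorem card_le_of_com {R : Subgroup G} (hR : R ≤ S) {y : Fin 128}
    (h : ∀ r ∈ R, c.ι y * r = r * c.ι y) :
    Nat.card ↥R ≤ ((Finset.univ : Finset (Fin 128)).filter fun a => Com y a).card := by
  have hsel : ∀ r : ↥R, ∃ a, c.ι a = (r : G) := fun r => c.surj _ (hR r.2)
  choose f hf using hsel
  rw [← Nat.card_eq_finsetCard]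
  refine Nat.card_le_card_of_injective
    (fun r => ⟨f r, Finset.mem_filter.2 ⟨Finset.mem_univ _, ?_⟩⟩) fun a b e => ?_
  · rw [c.com_iff, hf]; exact h r r.2
  · exact Subtype.ext (by rw [← hf a, ← hf b, show f a = f b from congrArg Subtype.val e])

end Coord

section Finite

variable [Finite G] (S : Sylow 2 G) (c : Coord (S : Subgroup G))
include c

/-- a two-subgroup with an element it centralises, moved into the Sylow subgroup -/
theorem into_sylow {R : Subgroup G} (hR : IsPGroup 2 ↥R) {v : G} (hv : v * v = 1)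
    (h : ∀ r ∈ R, v * r = r * v) :
    ∃ (g : G) (y : Fin 128), c.ι y = g * v * g⁻¹ ∧ mulF y y = 0 ∧
      Nat.card ↥R ≤ ((Finset.univ : Finset (Fin 128)).filter fun a => Com y a).card := by
  haveI : Fact (Nat.Prime 2) := ⟨Nat.prime_two⟩
  have hV : IsPGroup 2 ↥(zpowers v) := by
    intro x
    obtain ⟨j, hj⟩ := mem_zpowers_iff.1 x.2
    refine ⟨1, Subtype.ext ?_⟩
    rw [pow_one, pow_two]
    show (x : G) * x = 1
    rw [← hj, ← Commute.mul_zpow (Commute.refl v), hv, one_zpow]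
  have hle : R ≤ normalizer (zpowers v : Set G) := by
    intro r hr
    refine mem_normalizer_iff.2 fun x => ?_
    have hc : ∀ y ∈ zpowers v, r * y * r⁻¹ = y := by
      rintro _ ⟨j, rfl⟩
      rw [mul_inv_eq_iff_eq_mul]
      exact (Commute.zpow_right (show Commute r v from (h r hr).symm) j).eq
    refine ⟨fun hx => by rw [hc x hx]; exact hx, fun hx => ?_⟩
    have e : x = r * x * r⁻¹ := by
      have e' := hc _ hx
      calc x = r⁻¹ * (r * x * r⁻¹) * r := by group
        _ = r⁻¹ * (r * (r * x * r⁻¹) * r⁻¹) * r := by rw [e']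
        _ = r * x * r⁻¹ := by group
    rwa [← e] at hx
  obtain ⟨T, hT⟩ := (IsPGroup.to_sup_of_normal_right' hR hV hle).exists_le_sylow
  obtain ⟨g, hg⟩ := MulAction.exists_smul_eq G T S
  have hin : ∀ r ∈ R ⊔ zpowers v, g * r * g⁻¹ ∈ (S : Subgroup G) := fun r hr => by
    rw [← hg]
    exact Subgroup.smul_mem_pointwise_smul _ (MulAut.conj g) _ (hT hr)
  obtain ⟨y, hy⟩ := c.surj _ (hin v (mem_sup_right (mem_zpowers v)))
  refine ⟨g, y, hy, c.sq_iff.1 ?_, ?_⟩
  · rw [hy, show g * v * g⁻¹ * (g * v * g⁻¹) = g * (v * v) * g⁻¹ by group, hv, mul_one, mul_inv_cancel]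
  · rw [← card_conj_map g R]
    refine c.card_le_of_com (fun x hx => ?_) fun x hx => ?_
    · have := hin _ (mem_sup_left (mem_conj_map.1 hx))
      simpa [mul_assoc] using this
    · rw [hy]
      have e := h _ (mem_conj_map.1 hx)
      calc g * v * g⁻¹ * x = g * (v * (g⁻¹ * x * g)) * g⁻¹ := by group
        _ = g * (g⁻¹ * x * g * v) * g⁻¹ := by rw [e]
        _ = x * (g * v * g⁻¹) := by group

/-- the bound for the central four-group -/
theorem card_le_of_not_center {y : Fin 128} (hy : mulF y y = 0)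
    (h1 : ∀ g : G, g * c.ι y * g⁻¹ ≠ c.ι 1) (h0 : y ≠ 0) {R : Subgroup G} (hR : IsPGroup 2 ↥R)
    (hRv : R ≤ centralizer ({c.ι y} : Set G)) : Nat.card ↥R ≤ 64 ∧
      ((∀ g : G, g * c.ι y * g⁻¹ ≠ c.ι 30 ∧ g * c.ι y * g⁻¹ ≠ c.ι 31) → Nat.card ↥R ≤ 16) := by
  obtain ⟨g, a, ha, haa, hle⟩ := into_sylow S c hR (c.sq_iff.2 hy)
    fun r hr => (mem_centralizer_singleton_iff.1 (hRv hr)).symm
  have ha0 : a ≠ 0 := by
    intro e
    rw [e, c.map_zero, eq_comm, conj_eq_one_iff, c.eq_one_iff] at ha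
    exact h0 ha
  have ha1 : a ≠ 1 := fun e => h1 g (by rw [← ha, e])
  by_cases hZ : InZ a
  · obtain he := cent_card.2.1 a hZ ha0 ha1
    rw [cent_card.1 a he] at hle
    refine ⟨hle, fun hn => absurd ha ?_⟩
    rcases he with e | e <;> rw [e]
    · exact (hn g).1.symm
    · exact (hn g).2.symm
  · rw [large_centraliser a hZ haa] at hle
    exact ⟨le_trans hle (by norm_num), fun _ => hle⟩

/-- **Thompson transfer**: `2` is fused into the central four-group inside the centraliser of `1` -/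
theorem fuse_in_centralizer (h2 : ∀ H : Subgroup G, H.Normal → H.index ≠ 2) :
    ∃ k : G, k * c.ι 1 * k⁻¹ = c.ι 1 ∧ (k * c.ι 2 * k⁻¹ = c.ι 30 ∨ k * c.ι 2 * k⁻¹ = c.ι 31) := by
  classical
  haveI : Fact (Nat.Prime 2) := ⟨Nat.prime_two⟩
  obtain ⟨-, hZ64, hZE, h22, hU2, -⟩ := cent_card
  have hu1 : c.ι 2 ≠ c.ι 1 := fun e => absurd (c.inj e) (by decide)
  have hu0 : c.ι 2 ≠ 1 := fun e => absurd (c.eq_one_iff.1 e) (by decide)
  -- the group C_S(u)
  have hD : ∀ x y : Fin 128, Com 2 x → Com 2 y → Com 2 (mulF x y) := by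
    intro x y hx hy
    rw [c.com_iff] at hx hy ⊢
    rw [c.map_mul, ← mul_assoc, hx, mul_assoc, hy, ← mul_assoc]
  let D := c.img (Com 2) (by decide +kernel) hD
  have hDp : IsPGroup 2 ↥D := S.2.to_le (c.img_le _ _)
  have hDu : D ≤ centralizer ({c.ι 2} : Set G) := by
    rintro _ ⟨x, hx, rfl⟩
    exact mem_centralizer_singleton_iff.2 (c.com_iff.1 hx).symm
  -- moved into `S` so that the centre is fused into the four-group
  suffices key : ∃ (k : G) (v : Fin 128), InZ v ∧ k * c.ι 2 * k⁻¹ = c.ι v ∧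
      ∀ d ∈ D, k * d * k⁻¹ ∈ (S : Subgroup G) by
    obtain ⟨k, v, hv, hkv, hkD⟩ := key
    obtain ⟨r, a, b, hr2, hr1, -, -, -⟩ := u_root
    obtain ⟨s, hs⟩ := c.surj _ (hkD _ ⟨r, hr2.symm, rfl⟩)
    have hkz : k * c.ι 1 * k⁻¹ = c.ι (mulF s s) := by
      rw [c.map_mul, hs, ← hr1, c.map_mul]; group
    have hwZ : InZ (mulF s s) := by
      refine square_invol s (c.sq_iff.1 ?_)
      rw [← hkz, show k * c.ι 1 * k⁻¹ * (k * c.ι 1 * k⁻¹) = k * (c.ι 1 * c.ι 1) * k⁻¹ by group,
        c.sq_iff.2 (by decide +kernel), mul_one, mul_inv_cancel]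
    let W : Subgroup G := c.bigE.map (MulAut.conj k⁻¹).toMonoidHom
    have hWp : IsPGroup 2 ↥W := isPGroup_conj_map (S.2.to_le (c.img_le _ _))
    have hcom : ∀ (x : Fin 128) (y : G), InZ x → k * y * k⁻¹ = c.ι x → ∀ w ∈ W, y * w = w * y := by
      intro x y hx hy w hw
      obtain ⟨e, he, he'⟩ := mem_conj_map.1 hw
      have h := c.com_iff.1 (inE_facts.2.2.2.1 x hx e he)
      rw [inv_inv] at he'
      have hy' : y = k⁻¹ * c.ι x * k := by rw [← hy]; group
      have hw' : w = k⁻¹ * c.ι e * k := by rw [he']; group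
      rw [hy', hw']
      calc k⁻¹ * c.ι x * k * (k⁻¹ * c.ι e * k) = k⁻¹ * (c.ι x * c.ι e) * k := by group
        _ = k⁻¹ * (c.ι e * c.ι x) * k := by rw [h]
        _ = k⁻¹ * c.ι e * k * (k⁻¹ * c.ι x * k) := by group
    have hWz : W ≤ centralizer ({c.ι 1} : Set G) := fun w hw =>
      mem_centralizer_singleton_iff.2 (hcom _ _ hwZ hkz w hw).symm
    obtain ⟨k', hk'z, hk'W⟩ := exists_conj_into (T := (S : Subgroup G)) S.2
      (fun s hs => by
        obtain ⟨x, rfl⟩ := c.surj s hs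
        exact mem_centralizer_singleton_iff.2 (c.com_iff.1 (one_facts x).1))
      (fun Q hQ _ => by
        obtain ⟨P, hP⟩ := hQ.exists_le_sylow
        exact (Subgroup.card_le_of_le hP).trans_eq (Nat.card_congr (Sylow.equiv P S).toEquiv))
      hWp hWz
    have huW : c.ι 2 ∈ W := mem_conj_map.2 ⟨v, (hZE v hv).2, by rw [← hkv, inv_inv]⟩
    obtain ⟨y, hy⟩ := c.surj _ (hk'W _ huW)
    have hyy : mulF y y = 0 := by
      rw [← c.sq_iff, hy, show k' * c.ι 2 * k'⁻¹ * (k' * c.ι 2 * k'⁻¹) = k' * (c.ι 2 * c.ι 2) * k'⁻¹ by group,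
        c.sq_iff.2 h22, mul_one, mul_inv_cancel]
    have hyZ : InZ y := by
      by_contra hn
      have hle : Nat.card ↥(W.map (MulAut.conj k').toMonoidHom) ≤
          ((Finset.univ : Finset (Fin 128)).filter fun a => Com y a).card := by
        refine c.card_le_of_com (fun x hx => ?_) fun x hx => ?_
        · have := hk'W _ (mem_conj_map.1 hx)
          simpa [mul_assoc] using this
        · rw [hy]
          have h := hcom _ _ hv hkv _ (mem_conj_map.1 hx)
          calc k' * c.ι 2 * k'⁻¹ * x = k' * (c.ι 2 * (k'⁻¹ * x * k')) * k'⁻¹ := by group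
            _ = k' * (k'⁻¹ * x * k' * c.ι 2) * k'⁻¹ := by rw [h]
            _ = x * (k' * c.ι 2 * k'⁻¹) := by group
      rw [card_conj_map, card_conj_map, c.card_bigE, large_centraliser y hn hyy] at hle
      omega
    refine ⟨k', hk'z, ?_⟩
    have hy0 : y ≠ 0 := fun e => by
      rw [e, c.map_zero, eq_comm, conj_eq_one_iff] at hy
      exact hu0 hy
    have hy1 : y ≠ 1 := fun e => by
      rw [e] at hy
      exact hu1 (mul_left_cancel (mul_right_cancel (hy.symm.trans hk'z.symm)))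
    rcases hZ64 y hyZ hy0 hy1 with e | e <;> rw [e] at hy
    · exact Or.inl hy.symm
    · exact Or.inr hy.symm
  by_cases hz : ∃ g, g * c.ι 2 * g⁻¹ = c.ι 1
  · -- fused to the centre
    obtain ⟨g, hg⟩ := hz
    obtain ⟨k, hk1, hk⟩ := exists_conj_into (v := c.ι 1) (T := (S : Subgroup G))
      (R := D.map (MulAut.conj g).toMonoidHom) S.2
      (fun s hs => by
        obtain ⟨x, rfl⟩ := c.surj s hs
        exact mem_centralizer_singleton_iff.2 (c.com_iff.1 (one_facts x).1))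
      (fun Q hQ _ => by
        obtain ⟨P, hP⟩ := hQ.exists_le_sylow
        exact (Subgroup.card_le_of_le hP).trans_eq (Nat.card_congr (Sylow.equiv P S).toEquiv))
      (isPGroup_conj_map hDp)
      (fun x hx => by
        have h := mem_centralizer_singleton_iff.1 (hDu (mem_conj_map.1 hx))
        rw [mem_centralizer_singleton_iff, ← hg]
        calc x * (g * c.ι 2 * g⁻¹) = g * (g⁻¹ * x * g * c.ι 2) * g⁻¹ := by group
          _ = g * (c.ι 2 * (g⁻¹ * x * g)) * g⁻¹ := by rw [h]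
          _ = g * c.ι 2 * g⁻¹ * x := by group)
    refine ⟨k * g, 1, Or.inr (Or.inl rfl), ?_, fun d hd => ?_⟩
    · rw [show k * g * c.ι 2 * (k * g)⁻¹ = k * (g * c.ι 2 * g⁻¹) * k⁻¹ by group, hg, hk1]
    · have := hk _ (mem_map_of_mem _ hd)
      simpa [mul_assoc] using this
  push Not at hz
  have hu1' : ∀ (g : G) (y : Fin 128), g * c.ι 2 * g⁻¹ = c.ι y → ∀ h : G, h * c.ι y * h⁻¹ ≠ c.ι 1 := by
    intro g y hy h e
    exact hz (h * g) (by rw [← e, ← hy]; group)
  by_cases hp : ∃ g y, (y = 30 ∨ y = 31) ∧ g * c.ι 2 * g⁻¹ = c.ι y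
  · -- fused to the four-group
    obtain ⟨g, y, hy, hg⟩ := hp
    have hy' : InZ y ∧ y ≠ 0 := by
      rcases hy with rfl | rfl
      · exact ⟨Or.inr (Or.inr (Or.inl rfl)), by decide⟩
      · exact ⟨Or.inr (Or.inr (Or.inr rfl)), by decide⟩
    obtain ⟨k, hk1, hk⟩ := exists_conj_into (v := c.ι y) (T := c.bigE)
      (R := D.map (MulAut.conj g).toMonoidHom) (S.2.to_le (c.img_le _ _))
      (by
        rintro _ ⟨e, he, rfl⟩
        exact mem_centralizer_singleton_iff.2 (c.com_iff.1 (inE_facts.2.2.2.1 y hy'.1 e he)).symm)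
      (fun Q hQ hQv => by
        rw [c.card_bigE]
        exact (card_le_of_not_center S c (hZE y hy'.1).1 (hu1' g y hg) hy'.2 hQ hQv).1)
      (isPGroup_conj_map hDp)
      (fun x hx => by
        have h := mem_centralizer_singleton_iff.1 (hDu (mem_conj_map.1 hx))
        rw [mem_centralizer_singleton_iff, ← hg]
        calc x * (g * c.ι 2 * g⁻¹) = g * (g⁻¹ * x * g * c.ι 2) * g⁻¹ := by group
          _ = g * (c.ι 2 * (g⁻¹ * x * g)) * g⁻¹ := by rw [h]
          _ = g * c.ι 2 * g⁻¹ * x := by group)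
    refine ⟨k * g, y, hy'.1, ?_, fun d hd => ?_⟩
    · rw [show k * g * c.ι 2 * (k * g)⁻¹ = k * (g * c.ι 2 * g⁻¹) * k⁻¹ by group, hg, hk1]
    · have := c.img_le _ _ (hk _ (mem_map_of_mem _ hd))
      simpa [mul_assoc] using this
  push Not at hp
  exfalso
  -- transfer gives a conjugate with an abelian centraliser
  obtain ⟨g, x, hxE, hgx⟩ : ∃ g x, InE x ∧ g * c.ι 2 * g⁻¹ = c.ι x := by
    by_contra hne
    push Not at hne
    obtain ⟨M, hMn, hMi, -⟩ := CfsgLib.Fusion.thompson_transfer S (Q := c.bigE) (c.img_le _ _)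
      (by
        have h := (c.bigE.subgroupOf (S : Subgroup G)).card_mul_index
        have e : Nat.card ↥(c.bigE.subgroupOf (S : Subgroup G)) = 64 :=
          (Nat.card_congr (subgroupOfEquivOfLe (c.img_le _ _)).toEquiv).trans c.card_bigE
        rw [e, c.card_eq] at h
        rw [relIndex]; omega)
      (u := c.ι 2) (by rw [pow_two]; exact c.sq_iff.2 h22)
      (fun g hg => by
        obtain ⟨x, hx, e⟩ := hg
        exact hne g x hx e.symm)
    exact h2 M hMn hMi
  have hxx : mulF x x = 0 := by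
    rw [← c.sq_iff, ← hgx, show g * c.ι 2 * g⁻¹ * (g * c.ι 2 * g⁻¹) = g * (c.ι 2 * c.ι 2) * g⁻¹ by group,
      c.sq_iff.2 h22, mul_one, mul_inv_cancel]
  have hx0 : x ≠ 0 := fun e => by
    rw [e, c.map_zero, conj_eq_one_iff] at hgx
    exact hu0 hgx
  have hxZ : ¬ InZ x := by
    rintro (e | e | e | e)
    · exact hx0 e
    · exact hz g (e ▸ hgx)
    · exact hp g 30 (Or.inl rfl) (e ▸ hgx)
    · exact hp g 31 (Or.inr rfl) (e ▸ hgx)
  have hxW := inE_invol x hxE hxx hxZ
  have hF : ∀ a b : Fin 128, Com x a → Com x b → Com x (mulF a b) := by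
    intro a b ha hb
    rw [c.com_iff] at ha hb ⊢
    rw [c.map_mul, ← mul_assoc, ha, mul_assoc, hb, ← mul_assoc]
  let F := c.img (Com x) (by rw [c.com_iff, c.map_zero, mul_one, one_mul]) hF
  obtain ⟨k, -, hk⟩ := exists_conj_into (v := c.ι x) (T := F) (R := D.map (MulAut.conj g).toMonoidHom)
    (S.2.to_le (c.img_le _ _))
    (by
      rintro _ ⟨e, he, rfl⟩
      exact mem_centralizer_singleton_iff.2 (c.com_iff.1 he).symm)
    (fun Q hQ hQv => by
      rw [c.card_img, large_centraliser x hxZ hxx]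
      exact (card_le_of_not_center S c hxx (hu1' g x hgx) hx0 hQ hQv).2 fun h =>
        ⟨fun e => hp (h * g) 30 (Or.inl rfl) (by rw [← e, ← hgx]; group),
          fun e => hp (h * g) 31 (Or.inr rfl) (by rw [← e, ← hgx]; group)⟩)
    (isPGroup_conj_map hDp)
    (fun y hy => by
      have h := mem_centralizer_singleton_iff.1 (hDu (mem_conj_map.1 hy))
      rw [mem_centralizer_singleton_iff, ← hgx]
      calc y * (g * c.ι 2 * g⁻¹) = g * (g⁻¹ * y * g * c.ι 2) * g⁻¹ := by group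
        _ = g * (c.ι 2 * (g⁻¹ * y * g)) * g⁻¹ := by rw [h]
        _ = g * c.ι 2 * g⁻¹ * y := by group)
  obtain ⟨r, a, b, -, -, ha, hb, hab⟩ := u_root
  obtain ⟨a', ha', hea⟩ := hk _ (mem_map_of_mem _ (show c.ι a ∈ D from ⟨a, ha.symm, rfl⟩))
  obtain ⟨b', hb', heb⟩ := hk _ (mem_map_of_mem _ (show c.ι b ∈ D from ⟨b, hb.symm, rfl⟩))
  have h := c.com_iff.1 ((w_abelian x hxW a' ha').2 b' hb')
  rw [hea, heb] at h
  apply hab
  rw [c.com_iff]
  simp only [MulEquiv.coe_toMonoidHom, MulAut.conj_apply] at h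
  refine mul_left_cancel (a := k * g) (mul_right_cancel (b := (k * g)⁻¹) ?_)
  calc k * g * (c.ι a * c.ι b) * (k * g)⁻¹
      = k * (g * c.ι a * g⁻¹) * k⁻¹ * (k * (g * c.ι b * g⁻¹) * k⁻¹) := by group
    _ = k * (g * c.ι b * g⁻¹) * k⁻¹ * (k * (g * c.ι a * g⁻¹) * k⁻¹) := h
    _ = k * g * (c.ι b * c.ι a) * (k * g)⁻¹ := by group

end Finite

end CfsgLib.Invol.JTwoType
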