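import Cfsg.Agent.Lib.Invol.JTwoType.Core
import Mathlib.GroupTheory.SpecificGroups.Alternating.Simple

/-!
# Outer involutions are not fused into the core, and the action on the five points
-/

set_option autoImplicit false
set_option linter.style.haveILetI false
set_option maxRecDepth 100000
set_option linter.unusedSectionVars false

namespace CfsgLib.Invol.JTwoType

open Subgroup

universe u

variable {G : Type u} [Group G]

theorem u_small : ∀ a : Fin 128, IsU a →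
    ((Finset.univ : Finset (Fin 128)).filter fun b => mulF b b = 0 ∧ Com a b).card < 16 := by
  decide +kernel

theorem swap_facts : (∀ b : Fin 128, cjF 2 (cjF 2 b) = b ∧ cjF 0 b = b) ∧
    (∀ y : Fin 128, (y = 30 ∨ y = 31) → (cjF 2 y = 30 ∨ cjF 2 y = 31) ∧ mulF y y = 0 ∧ y ≠ 0 ∧ InE y) ∧
    mulF 1 30 = 31 ∧ mulF 1 31 = 30 := by decide +kernel

theorem out_not_z : ∀ x : Fin 128, IsW x → ¬ InZ x ∧ ¬ InZ (mulF 1 x) ∧ x ≠ 1 := by decide +kernel

theorem pt_cases : ∀ x : Fin 128, x.1 < 32 → mulF x x = 0 → x ≠ 0 → x ≠ 1 →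
    ∃ j : Fin 5, x = ptF j ∨ x = mulF 1 (ptF j) := by decide +kernel

theorem pt_facts : (∀ i j : Fin 5, ptF i ≠ mulF 1 (ptF j) ∧ (ptF i = ptF j → i = j)) ∧
    (∀ i : Fin 5, (ptF i).1 < 32 ∧ mulF (ptF i) (ptF i) = 0 ∧ ptF i ≠ 0 ∧ ptF i ≠ 1) ∧
    ∀ q : Fin 128, q.1 < 32 → cjF q 2 = 2 ∨ cjF q 2 = 3 := by decide +kernel

theorem signs_core : ∀ ε : Fin 4 → Bool, ∃ q : Fin 128, q.1 < 32 ∧ ∀ i : Fin 4,
    cjF q (ptF i.castSucc) = if ε i then mulF 1 (ptF i.castSucc) else ptF i.castSucc := by decide +kernel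

theorem core_gens : ∀ x : Fin 128, x.1 < 32 → x = 0 ∨ ∃ k : Fin 5, ∃ y : Fin 128, y < x ∧
    mulF ⟨2 ^ k.1 % 128, Nat.mod_lt _ (by norm_num)⟩ y = x := by decide +kernel

/-- the four permutations of the points induced by the Sylow subgroup -/
def vList : List (Equiv.Perm (Fin 5)) :=
  [1, Equiv.swap 0 1 * Equiv.swap 2 3, Equiv.swap 0 2 * Equiv.swap 1 3, Equiv.swap 0 3 * Equiv.swap 1 2]

theorem syl_action : ∀ x : Fin 128, ∃ σ ∈ vList, (32 ≤ x.1 → σ ≠ 1) ∧
    ∀ i : Fin 5, cjF x (ptF i) = ptF (σ i) ∨ cjF x (ptF i) = mulF 1 (ptF (σ i)) := by decide +kernel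

theorem vList_facts : (∀ σ ∈ vList, Equiv.Perm.sign σ = 1) ∧ vList.Nodup ∧ vList.length = 4 ∧
    (∀ σ ∈ vList, ∃ x : Fin 128, ∀ i : Fin 5,
      cjF x (ptF i) = ptF (σ i) ∨ cjF x (ptF i) = mulF 1 (ptF (σ i))) ∧
    ∀ i : Fin 5, i ≠ 4 → ∃ σ ∈ vList, σ 0 = i := by decide +kernel

/-- A largest two-subgroup of a subgroup absorbs all others. -/
theorem exists_conj_into_of_le [Finite G] {H T R : Subgroup G} (hT : IsPGroup 2 ↥T) (hTH : T ≤ H)
    (hmax : ∀ Q : Subgroup G, IsPGroup 2 ↥Q → Q ≤ H → Nat.card Q ≤ Nat.card T)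
    (hR : IsPGroup 2 ↥R) (hRH : R ≤ H) : ∃ k ∈ H, ∀ r ∈ R, k * r * k⁻¹ ∈ T := by
  haveI : Fact (Nat.Prime 2) := ⟨Nat.prime_two⟩
  obtain ⟨P, hP⟩ := (hT.comap_subtype (K := H)).exists_le_sylow
  obtain ⟨Q, hQ⟩ := (hR.comap_subtype (K := H)).exists_le_sylow
  obtain ⟨k, hk⟩ := MulAction.exists_smul_eq ↥H Q P
  have hPT : (P : Subgroup ↥H).map H.subtype = T := by
    refine (eq_of_le_of_card_ge (fun t ht => mem_map.2 ⟨⟨t, hTH ht⟩, hP ht, rfl⟩) ?_).symm
    exact hmax _ (P.2.map _) (map_subtype_le _)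
  refine ⟨(k : G), k.2, fun r hr => ?_⟩
  rw [← hPT]
  refine ⟨k * ⟨r, hRH hr⟩ * k⁻¹, ?_, rfl⟩
  rw [← hk]
  exact Subgroup.smul_mem_pointwise_smul _ (MulAut.conj k) _ (hQ hr)

section Central

variable {S : Subgroup G} (c : Coord S) (hz : ∀ g : G, g * c.ι 1 = c.ι 1 * g)
include c hz

theorem zz_eq : c.ι 1 * c.ι 1 = 1 := c.sq_iff.2 (by decide +kernel)

theorem conj_z_mul (g a : G) : g * (c.ι 1 * a) * g⁻¹ = c.ι 1 * (g * a * g⁻¹) := by
  rw [← mul_assoc g, hz, mul_assoc, mul_assoc, mul_assoc]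

theorem z_fix (g : G) : g * c.ι 1 * g⁻¹ = c.ι 1 := by rw [hz, mul_inv_cancel_right]

/-- the stabiliser of the point `30` up to the centre -/
def pStab : Subgroup G where
  carrier := {k | k * c.ι 30 * k⁻¹ = c.ι 30 ∨ k * c.ι 30 * k⁻¹ = c.ι 1 * c.ι 30}
  one_mem' := Or.inl (by group)
  mul_mem' := by
    intro a b ha hb
    simp only [Set.mem_setOf_eq] at ha hb ⊢
    rw [show a * b * c.ι 30 * (a * b)⁻¹ = a * (b * c.ι 30 * b⁻¹) * a⁻¹ by group]
    rcases hb with e | e <;> rw [e]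
    · exact ha
    · rw [conj_z_mul c hz]
      rcases ha with e' | e' <;> rw [e']
      · exact Or.inr rfl
      · rw [← mul_assoc, zz_eq c hz, one_mul]; exact Or.inl rfl
  inv_mem' := by
    intro a ha
    simp only [Set.mem_setOf_eq, inv_inv] at ha ⊢
    rcases ha with e | e
    · left
      conv_lhs => rw [← e]
      group
    · right
      have h : a⁻¹ * (a * c.ι 30 * a⁻¹) * a = c.ι 30 := by group
      rw [e] at h
      have h' := conj_z_mul c hz a⁻¹ (c.ι 30)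
      rw [inv_inv] at h'
      rw [h'] at h
      conv_rhs => rw [← h]
      rw [← mul_assoc, zz_eq c hz, one_mul]

theorem mem_pStab {k : G} : k ∈ pStab c hz ↔ ∃ y : Fin 128, (y = 30 ∨ y = 31) ∧ k * c.ι 30 * k⁻¹ = c.ι y := by
  show _ ∨ _ ↔ _
  rw [← c.map_mul, swap_facts.2.2.1]
  constructor
  · rintro (e | e)
    · exact ⟨30, Or.inl rfl, e⟩
    · exact ⟨31, Or.inr rfl, e⟩
  · rintro ⟨y, rfl | rfl, e⟩
    · exact Or.inl e
    · exact Or.inr e

theorem atPt_z_mul {g : G} {i : Fin 5} (h : c.AtPt g i) : c.AtPt (c.ι 1 * g) i := by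
  rcases h with e | e <;> subst e
  · exact Or.inr (c.map_mul _ _).symm
  · exact Or.inl (by rw [c.map_mul, ← mul_assoc, zz_eq c hz, one_mul])

theorem atPt_unique {g : G} {i j : Fin 5} (h : c.AtPt g i) (h' : c.AtPt g j) : i = j := by
  obtain ⟨hne, -⟩ := pt_facts
  rcases h with e | e <;> rcases h' with e' | e' <;> have h2 := c.inj (e.symm.trans e')
  · exact (hne i j).2 h2
  · exact absurd h2 (hne i j).1
  · exact absurd h2.symm (hne j i).1
  · exact (hne i j).2 (by rw [← (one_facts (ptF i)).2.1, h2, (one_facts (ptF j)).2.1])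

theorem atPt_comp {m n : G} {i j k : Fin 5} (hm : c.AtPt (m * c.ι (ptF i) * m⁻¹) j)
    (hn : c.AtPt (n * c.ι (ptF j) * n⁻¹) k) : c.AtPt (n * m * c.ι (ptF i) * (n * m)⁻¹) k := by
  rw [show n * m * c.ι (ptF i) * (n * m)⁻¹ = n * (m * c.ι (ptF i) * m⁻¹) * n⁻¹ by group]
  rcases hm with e | e <;> rw [e]
  · exact hn
  · rw [c.map_mul, conj_z_mul c hz]
    exact atPt_z_mul c hz hn

theorem exists_atPt {n : G} (hn : n ∈ normalizer (c.core : Set G)) (i : Fin 5) :
    ∃ j, c.AtPt (n * c.ι (ptF i) * n⁻¹) j := by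
  obtain ⟨h32, hsq, h0, h1⟩ := pt_facts.2.1 i
  obtain ⟨x, hx, hxe⟩ := (mem_normalizer_iff.1 hn _).1 (c.mem_core.2 ⟨_, h32, rfl⟩)
  obtain ⟨j, hj⟩ := pt_cases x hx
    (by rw [← c.sq_iff, hxe, show n * c.ι (ptF i) * n⁻¹ * (n * c.ι (ptF i) * n⁻¹) =
          n * (c.ι (ptF i) * c.ι (ptF i)) * n⁻¹ by group, c.sq_iff.2 hsq, mul_one, mul_inv_cancel])
    (fun e => h0 (by rw [e, c.map_zero, eq_comm, conj_eq_one_iff, c.eq_one_iff] at hxe; exact hxe))
    (fun e => h1 (by
      rw [e] at hxe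
      refine c.inj ?_
      calc c.ι (ptF i) = n⁻¹ * (n * c.ι (ptF i) * n⁻¹) * n := by group
        _ = c.ι 1 := by rw [← hxe, hz, inv_mul_cancel_right]))
  refine ⟨j, ?_⟩
  rw [← hxe]
  rcases hj with e | e <;> rw [e]
  · exact Or.inl rfl
  · exact Or.inr rfl

end Central

section Finite

variable [Finite G] (S : Sylow 2 G) (c : Coord (S : Subgroup G)) (hz : ∀ g : G, g * c.ι 1 = c.ι 1 * g)
include c hz

/-- an elementary image of a centraliser of an outer involution is one of them -/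
theorem image_is_centralizer {x : Fin 128} (hx : IsW x) {h : G}
    (hh : ∀ b, Com x b → h * c.ι b * h⁻¹ ∈ (S : Subgroup G)) :
    ∃ a, IsW a ∧ (∀ b, Com x b → ∃ e, Com a e ∧ c.ι e = h * c.ι b * h⁻¹) ∧
      ∀ e, Com a e → ∃ b, Com x b ∧ c.ι e = h * c.ι b * h⁻¹ := by
  classical
  have hsel : ∀ b : {b : Fin 128 // Com x b}, ∃ e, c.ι e = h * c.ι b.1 * h⁻¹ :=
    fun b => c.surj _ (hh b.1 b.2)
  choose f hf using hsel
  have hfinj : Function.Injective f := fun a b e => Subtype.ext (c.inj (by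
    have := congrArg c.ι e
    rw [hf, hf] at this
    exact mul_left_cancel (mul_right_cancel this)))
  set P := (Finset.univ : Finset {b : Fin 128 // Com x b}).image f with hP
  have hPc : P.card = 16 := by
    rw [hP, Finset.card_image_of_injective _ hfinj, Finset.card_univ, Fintype.card_subtype]
    exact large_centraliser x (out_not_z x hx).1 hx.2
  have hPab : ∀ a ∈ P, mulF a a = 0 ∧ ∀ b ∈ P, Com a b := by
    intro a ha
    obtain ⟨⟨a', ha'⟩, -, rfl⟩ := Finset.mem_image.1 ha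
    obtain ⟨hsq, hcm⟩ := w_abelian x hx a' ha'
    refine ⟨?_, fun b hb => ?_⟩
    · rw [← c.sq_iff, hf, show h * c.ι a' * h⁻¹ * (h * c.ι a' * h⁻¹) = h * (c.ι a' * c.ι a') * h⁻¹ by group,
        c.sq_iff.2 hsq, mul_one, mul_inv_cancel]
    · obtain ⟨⟨b', hb'⟩, -, rfl⟩ := Finset.mem_image.1 hb
      have e := c.com_iff.1 (hcm b' hb')
      rw [c.com_iff, hf, hf]
      calc h * c.ι a' * h⁻¹ * (h * c.ι b' * h⁻¹) = h * (c.ι a' * c.ι b') * h⁻¹ := by group
        _ = h * (c.ι b' * c.ι a') * h⁻¹ := by rw [e]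
        _ = h * c.ι b' * h⁻¹ * (h * c.ι a' * h⁻¹) := by group
  obtain ⟨a, haP, haW⟩ : ∃ a ∈ P, IsW a := by
    by_contra hne
    push Not at hne
    by_cases hU : ∃ a ∈ P, IsU a
    · obtain ⟨a, ha, haU⟩ := hU
      have hle : P ⊆ (Finset.univ : Finset (Fin 128)).filter fun b => mulF b b = 0 ∧ Com a b :=
        fun b hb => Finset.mem_filter.2 ⟨Finset.mem_univ _, (hPab b hb).1, (hPab a ha).2 b hb⟩
      have := Finset.card_le_card hle
      have := u_small a haU
      omega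
    · have hle : P ⊆ ({0, 1, 30, 31} : Finset (Fin 128)) := by
        intro b hb
        rcases invol_types b (hPab b hb).1 with h | h | h
        · simpa using h
        · exact absurd ⟨b, hb, h⟩ hU
        · exact absurd h (hne b hb)
      have := Finset.card_le_card hle
      rw [hPc] at this
      simp at this
  have heq : P = (Finset.univ : Finset (Fin 128)).filter fun b => Com a b := by
    refine Finset.eq_of_subset_of_card_le
      (fun b hb => Finset.mem_filter.2 ⟨Finset.mem_univ _, (hPab a haP).2 b hb⟩) ?_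
    rw [hPc, large_centraliser a (out_not_z a haW).1 haW.2]
  refine ⟨a, haW, fun b hb => ⟨f ⟨b, hb⟩, ?_, hf _⟩, fun e he => ?_⟩
  · exact (hPab a haP).2 _ (Finset.mem_image_of_mem f (Finset.mem_univ _))
  · have : e ∈ P := heq ▸ Finset.mem_filter.2 ⟨Finset.mem_univ _, he⟩
    obtain ⟨⟨b, hb⟩, -, rfl⟩ := Finset.mem_image.1 this
    exact ⟨b, hb, hf _⟩

/-- **the outer involutions are not fused into the central four-group** -/
theorem not_fused {x : Fin 128} (hx : IsW x) (k : G) :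
    k * c.ι x * k⁻¹ ≠ c.ι 30 ∧ k * c.ι x * k⁻¹ ≠ c.ι 31 := by
  classical
  haveI : Fact (Nat.Prime 2) := ⟨Nat.prime_two⟩
  suffices ∀ y : Fin 128, (y = 30 ∨ y = 31) → k * c.ι x * k⁻¹ ≠ c.ι y from
    ⟨this 30 (Or.inl rfl), this 31 (Or.inr rfl)⟩
  intro y hy hk
  obtain ⟨hcj, hyy, hy0, hyE⟩ := swap_facts.2.1 y hy
  have hF : ∀ a b : Fin 128, Com x a → Com x b → Com x (mulF a b) := by
    intro a b ha hb
    rw [c.com_iff] at ha hb ⊢
    rw [c.map_mul, ← mul_assoc, ha, mul_assoc, hb, ← mul_assoc]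
  have hx0 : Com x 0 := by rw [c.com_iff, c.map_zero, mul_one, one_mul]
  let F := c.img (Com x) hx0 hF
  have hFp : IsPGroup 2 ↥F := S.2.to_le (c.img_le _ _)
  have hy1 : ∀ g : G, g * c.ι y * g⁻¹ ≠ c.ι 1 := by
    intro g e
    have e' : c.ι y = c.ι 1 := by
      calc c.ι y = g⁻¹ * (g * c.ι y * g⁻¹) * g := by group
        _ = c.ι 1 := by rw [e, hz, inv_mul_cancel_right]
    rcases hy with rfl | rfl <;> exact absurd (c.inj e') (by decide)
  -- into `E`
  obtain ⟨k₁, hk₁, hk₁F⟩ := exists_conj_into (v := c.ι y) (T := c.bigE)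
    (R := F.map (MulAut.conj k).toMonoidHom) (S.2.to_le (c.img_le _ _))
    (by
      rintro _ ⟨e, he, rfl⟩
      refine mem_centralizer_singleton_iff.2 (c.com_iff.1 (inE_facts.2.2.2.1 y ?_ e he)).symm
      rcases hy with rfl | rfl
      · exact Or.inr (Or.inr (Or.inl rfl))
      · exact Or.inr (Or.inr (Or.inr rfl)))
    (fun Q hQ hQv => by
      rw [c.card_bigE]
      exact (card_le_of_not_center S c hyy hy1 hy0 hQ hQv).1)
    (isPGroup_conj_map hFp)
    (by
      intro r hr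
      obtain ⟨a, ha, hae⟩ := mem_conj_map.1 hr
      rw [mem_centralizer_singleton_iff, ← hk]
      have e := c.com_iff.1 ha
      calc r * (k * c.ι x * k⁻¹) = k * (k⁻¹ * r * k * c.ι x) * k⁻¹ := by group
        _ = k * (c.ι x * (k⁻¹ * r * k)) * k⁻¹ := by rw [← hae, e]
        _ = k * c.ι x * k⁻¹ * r := by group)
  set h := k₁ * k with hh
  have hhx : h * c.ι x * h⁻¹ = c.ι y := by
    rw [hh, show k₁ * k * c.ι x * (k₁ * k)⁻¹ = k₁ * (k * c.ι x * k⁻¹) * k₁⁻¹ by group, hk, hk₁]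
  have hhS : ∀ b, Com x b → h * c.ι b * h⁻¹ ∈ (S : Subgroup G) := fun b hb => by
    have := c.img_le _ _ (hk₁F _ (mem_map_of_mem (MulAut.conj k).toMonoidHom
      (show c.ι b ∈ F from ⟨b, hb, rfl⟩)))
    simpa [hh, mul_assoc] using this
  obtain ⟨a, haW, hha, -⟩ := image_is_centralizer S c hz hx hhS
  -- back to `F`
  obtain ⟨t, ht, hts⟩ : ∃ t : Fin 128, (t = 0 ∨ t = 2) ∧ ∀ b, Com a b → Com x (cjF t b) := by
    obtain ⟨hinv, -, -⟩ := swap_facts
    rcases w_swap x hx with h1 | h1 <;> rcases w_swap a haW with h2 | h2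
    · exact ⟨0, Or.inl rfl, fun b hb => by rw [(hinv b).2, h1]; exact (h2 b).1 hb⟩
    · exact ⟨2, Or.inr rfl, fun b hb => (h1 _).2 ((h2 b).1 hb)⟩
    · exact ⟨2, Or.inr rfl, fun b hb => (h1 _).2 (by rw [(hinv b).1]; exact (h2 b).1 hb)⟩
    · exact ⟨0, Or.inl rfl, fun b hb => by rw [(hinv b).2, h1]; exact (h2 b).1 hb⟩
  set n := c.ι t * h with hn
  have hnF : ∀ b, Com x b → ∃ e, Com x e ∧ n * c.ι b * n⁻¹ = c.ι e := by
    intro b hb
    obtain ⟨e, he, hee⟩ := hha b hb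
    refine ⟨_, hts e he, ?_⟩
    rw [c.map_cj, hee, hn]; group
  obtain ⟨y', hy', hnx⟩ : ∃ y' : Fin 128, (y' = 30 ∨ y' = 31) ∧ n * c.ι x * n⁻¹ = c.ι y' := by
    refine ⟨cjF t y, ?_, ?_⟩
    · rcases ht with rfl | rfl
      · rw [(swap_facts.1 y).2]; exact hy
      · exact hcj
    · rw [c.map_cj, ← hhx, hn]; group
  have hnN : n ∈ normalizer (F : Set G) := by
    have hle : F.map (MulAut.conj n).toMonoidHom ≤ F := by
      rintro _ ⟨_, ⟨b, hb, rfl⟩, rfl⟩
      obtain ⟨e, he, hee⟩ := hnF b hb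
      exact ⟨e, he, by simpa using hee.symm⟩
    have heq := eq_of_le_of_card_ge hle (card_conj_map n F).ge
    refine mem_normalizer_iff.2 fun g => ⟨fun hg => ?_, fun hg => ?_⟩
    · have := hle (mem_map_of_mem (MulAut.conj n).toMonoidHom hg)
      simpa using this
    · rw [← heq] at hg
      have := mem_conj_map.1 hg
      simpa [mul_assoc] using this
  have hEN : ∀ e : Fin 128, InE e → c.ι e ∈ normalizer (F : Set G) := by
    intro e he
    have key : ∀ e' : Fin 128, InE e' → ∀ g ∈ F, c.ι e' * g * (c.ι e')⁻¹ ∈ F := by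
      rintro e' he' _ ⟨b, hb, rfl⟩
      exact ⟨_, (w_normalizer x hx).1 b hb e' he', c.map_cj e' b⟩
    refine mem_normalizer_iff.2 fun g => ⟨key e he g, fun hg => ?_⟩
    have := key (invF e) (invF_mem inE_facts.2.1 he) _ hg
    rw [c.map_inv, inv_inv] at this
    simpa [mul_assoc] using this
  -- the elation
  obtain ⟨m, hm, hnm⟩ := hnF 30 (w_contains x hx).1
  obtain ⟨s₀, hs₀, hfix, f, hf, hfs⟩ := w_elation x hx m hm
  obtain ⟨r, hr, hrs⟩ : ∃ r : Fin 128, (r = 30 ∨ r = 31) ∧ cjF s₀ f = mulF r f :=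
    hfs.elim (fun e => ⟨30, Or.inl rfl, e⟩) fun e => ⟨31, Or.inr rfl, e⟩
  set σ := n⁻¹ * c.ι s₀ * n with hσ
  let K1 : Subgroup G := normalizer (F : Set G) ⊓ pStab c hz
  have hσK : σ ∈ K1 := by
    refine ⟨mul_mem (mul_mem ((normalizer (F : Set G)).inv_mem hnN) (hEN _ hs₀)) hnN, ?_⟩
    rcases hfix with e | e
    · left
      calc σ * c.ι 30 * σ⁻¹ = n⁻¹ * (c.ι s₀ * (n * c.ι 30 * n⁻¹) * (c.ι s₀)⁻¹) * n := by rw [hσ]; group
        _ = n⁻¹ * c.ι m * n := by rw [hnm, ← c.map_cj, e]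
        _ = c.ι 30 := by rw [← hnm]; group
    · right
      calc σ * c.ι 30 * σ⁻¹ = n⁻¹ * (c.ι s₀ * (n * c.ι 30 * n⁻¹) * (c.ι s₀)⁻¹) * n := by rw [hσ]; group
        _ = n⁻¹ * (c.ι 1 * c.ι m) * n := by rw [hnm, ← c.map_cj, e, c.map_mul]
        _ = c.ι 1 * c.ι 30 := by
          have := conj_z_mul c hz n⁻¹ (c.ι m)
          rw [inv_inv] at this
          rw [this, ← hnm]; group
  have hEK : c.bigE ≤ K1 := by
    rintro _ ⟨e, he, rfl⟩
    refine ⟨hEN e he, Or.inl ?_⟩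
    rw [c.com_iff.1 he, mul_inv_cancel_right]
  have hmax : ∀ Q : Subgroup G, IsPGroup 2 ↥Q → Q ≤ K1 → Nat.card Q ≤ Nat.card c.bigE := by
    intro Q hQ hQK
    obtain ⟨T, hT⟩ := (IsPGroup.to_sup_of_normal_right' hQ hFp (hQK.trans inf_le_left)).exists_le_sylow
    obtain ⟨g, hg⟩ := MulAction.exists_smul_eq G T S
    have hin : ∀ r ∈ Q ⊔ F, g * r * g⁻¹ ∈ (S : Subgroup G) := fun r hr => by
      rw [← hg]
      exact Subgroup.smul_mem_pointwise_smul _ (MulAut.conj g) _ (hT hr)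
    obtain ⟨a', ha', hfwd, hback⟩ :=
      image_is_centralizer S c hz hx (h := g) fun b hb => hin _ (mem_sup_right ⟨b, hb, rfl⟩)
    rw [← card_conj_map g Q]
    refine Subgroup.card_le_of_le fun q hq => ?_
    have hqQ := mem_conj_map.1 hq
    obtain ⟨e, hee⟩ : ∃ e, c.ι e = q := c.surj q (by simpa [mul_assoc] using hin _ (mem_sup_left hqQ))
    refine ⟨e, ?_, hee⟩
    by_contra hne
    obtain ⟨b, hb, hb'⟩ := (w_normalizer a' ha').2 e hne
    obtain ⟨b₀, hb₀, hb₀e⟩ := hback b hb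
    obtain ⟨b₁, hb₁, hb₁e⟩ := (mem_normalizer_iff.1 (hQK hqQ).1 _).1 (show c.ι b₀ ∈ F from ⟨b₀, hb₀, rfl⟩)
    obtain ⟨e₁, he₁, he₁e⟩ := hfwd b₁ hb₁
    apply hb'
    have : c.ι (cjF e b) = c.ι e₁ := by rw [c.map_cj, hee, hb₀e, he₁e, hb₁e]; group
    rw [c.inj this]
    exact he₁
  obtain ⟨c₀, hc₀, hc₀σ⟩ := exists_conj_into_of_le (S.2.to_le (c.img_le _ _)) hEK hmax
    (R := zpowers σ)
    (by
      have e : zpowers σ = (zpowers (c.ι s₀)).map (MulAut.conj n⁻¹).toMonoidHom := by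
        rw [MonoidHom.map_zpowers, hσ]
        congr 1
        simp [mul_assoc]
      rw [e]
      exact isPGroup_conj_map (S.2.to_le (zpowers_le.2 (c.mem _))))
    (zpowers_le.2 hσK)
  obtain ⟨e₁, he₁, he₁σ⟩ := hc₀σ σ (mem_zpowers σ)
  -- the commutator
  set f' := n⁻¹ * c.ι f * n with hf'
  have hf'F : f' ∈ F := by
    have := (mem_normalizer_iff.1 (inv_mem hnN) (c.ι f)).1 ⟨f, hf, rfl⟩
    rwa [inv_inv] at this
  set d := σ * f' * σ⁻¹ * f'⁻¹ with hd
  have hdx : ∃ w : Fin 128, ¬ InZ w ∧ d = c.ι w := by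
    have hd' : d = n⁻¹ * c.ι r * n := by
      calc d = n⁻¹ * (c.ι s₀ * c.ι f * (c.ι s₀)⁻¹ * (c.ι f)⁻¹) * n := by rw [hd, hσ, hf']; group
        _ = n⁻¹ * (c.ι r * c.ι f * (c.ι f)⁻¹) * n := by rw [← c.map_cj, hrs, c.map_mul]
        _ = n⁻¹ * c.ι r * n := by rw [mul_inv_cancel_right]
    obtain ⟨h1, h2, -⟩ := out_not_z x hx
    have hry : r = y' ∨ r = mulF 1 y' := by
      rcases hr with rfl | rfl <;> rcases hy' with rfl | rfl <;> decide +kernel
    rcases hry with rfl | rfl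
    · exact ⟨x, h1, by rw [hd', ← hnx]; group⟩
    · refine ⟨mulF 1 x, h2, ?_⟩
      have := conj_z_mul c hz n⁻¹ (c.ι y')
      rw [inv_inv] at this
      rw [hd', c.map_mul, this, c.map_mul, ← hnx]; group
  obtain ⟨w, hw, hdw⟩ := hdx
  obtain ⟨g, hg, hge⟩ := (mem_normalizer_iff.1 hc₀.1 f').1 hf'F
  obtain ⟨v, hv, hv'⟩ : ∃ v : Fin 128, InZ v ∧ c₀ * d * c₀⁻¹ = c.ι v := by
    refine ⟨_, w_flag x hx g hg e₁ he₁, ?_⟩
    rw [c.map_mul, c.map_cj, c.map_inv, hge, he₁σ, hd]; group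
  have hback' : ∀ w' : Fin 128, d = c.ι w' → InZ w' → False := fun w' e hw' =>
    hw (by rw [c.inj (hdw.symm.trans e)]; exact hw')
  have hcinv := (mem_pStab c hz).1 (inv_mem hc₀.2)
  rw [inv_inv] at hcinv
  obtain ⟨p', hp', hp'e⟩ := hcinv
  have hd0 : d = c₀⁻¹ * c.ι v * c₀ := by rw [← hv']; group
  have hzc : c₀⁻¹ * c.ι 1 * c₀ = c.ι 1 := by rw [hz, inv_mul_cancel_right]
  rcases hv with rfl | rfl | rfl | rfl
  · refine hback' 0 (by rw [hd0, c.map_zero]; group) (Or.inl rfl)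
  · exact hback' 1 (hd0.trans hzc) (Or.inr (Or.inl rfl))
  · refine hback' p' (hd0.trans hp'e) ?_
    rcases hp' with rfl | rfl
    · exact Or.inr (Or.inr (Or.inl rfl))
    · exact Or.inr (Or.inr (Or.inr rfl))
  · refine hback' (mulF 1 p') ?_ ?_
    · rw [hd0, ← swap_facts.2.2.1, c.map_mul, c.map_mul, ← hp'e]
      have := conj_z_mul c hz c₀⁻¹ (c.ι 30)
      rwa [inv_inv] at this
    · rcases hp' with rfl | rfl
      · rw [swap_facts.2.2.1]; exact Or.inr (Or.inr (Or.inr rfl))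
      · rw [swap_facts.2.2.2]; exact Or.inr (Or.inr (Or.inl rfl))

/-- fusion inside the normaliser of the core -/
theorem exists_norm_move (hfus : ∃ k : G, k * c.ι 2 * k⁻¹ = c.ι 30 ∨ k * c.ι 2 * k⁻¹ = c.ι 31) :
    ∃ n ∈ normalizer (c.core : Set G), c.AtPt (n * c.ι (ptF 0) * n⁻¹) 4 := by
  classical
  haveI : Fact (Nat.Prime 2) := ⟨Nat.prime_two⟩
  obtain ⟨k, hk⟩ := hfus
  have hkP : c.AtPt (k * c.ι (ptF 0) * k⁻¹) 4 := by
    rcases hk with e | e
    · exact Or.inl e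
    · exact Or.inr (e.trans (congrArg c.ι swap_facts.2.2.1.symm))
  have hR : c.core.map (MulAut.conj k).toMonoidHom ≤ pStab c hz := by
    rintro _ ⟨_, ⟨q, hq, rfl⟩, rfl⟩
    obtain ⟨y, hy, hye⟩ : ∃ y : Fin 128, (y = 30 ∨ y = 31) ∧ k * c.ι 2 * k⁻¹ = c.ι y :=
      hk.elim (fun e => ⟨30, Or.inl rfl, e⟩) fun e => ⟨31, Or.inr rfl, e⟩
    have h2 : c.ι q * c.ι 2 * (c.ι q)⁻¹ = c.ι 2 ∨ c.ι q * c.ι 2 * (c.ι q)⁻¹ = c.ι 1 * c.ι 2 := by
      rcases pt_facts.2.2 q hq with e | e <;> rw [← c.map_cj, e]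
      · exact Or.inl rfl
      · right; rw [← c.map_mul, show mulF 1 2 = 3 by decide +kernel]
    have h30 : ∀ g : G, g * c.ι y * g⁻¹ = c.ι y → g * c.ι 30 * g⁻¹ = c.ι 30 := by
      intro g e
      rcases hy with rfl | rfl
      · exact e
      · rw [← swap_facts.2.2.2, c.map_mul, conj_z_mul c hz, e]
    have h30' : ∀ g : G, g * c.ι y * g⁻¹ = c.ι 1 * c.ι y → g * c.ι 30 * g⁻¹ = c.ι 1 * c.ι 30 := by
      intro g e
      rcases hy with rfl | rfl
      · exact e
      · rw [← swap_facts.2.2.2, c.map_mul, conj_z_mul c hz, e]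
    simp only [MulEquiv.coe_toMonoidHom, MulAut.conj_apply]
    rcases h2 with e | e
    · refine Or.inl (h30 _ ?_)
      rw [← hye]
      calc _ = k * (c.ι q * c.ι 2 * (c.ι q)⁻¹) * k⁻¹ := by group
        _ = _ := by rw [e]
    · refine Or.inr (h30' _ ?_)
      rw [← hye]
      calc _ = k * (c.ι q * c.ι 2 * (c.ι q)⁻¹) * k⁻¹ := by group
        _ = _ := by rw [e, conj_z_mul c hz]
  have hS : (S : Subgroup G) ≤ pStab c hz := by
    intro s hs
    obtain ⟨x, rfl⟩ := c.surj s hs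
    have h30 : ∀ x : Fin 128, cjF x 30 = 30 ∨ cjF x 30 = 31 := by decide +kernel
    exact (mem_pStab c hz).2 ⟨_, h30 x, (c.map_cj x 30).symm⟩
  obtain ⟨c₀, hc₀, hc₀R⟩ := exists_conj_into_of_le S.2 hS
    (fun Q hQ _ => by
      obtain ⟨P, hP⟩ := hQ.exists_le_sylow
      exact (Subgroup.card_le_of_le hP).trans_eq (Nat.card_congr (Sylow.equiv P S).toEquiv))
    (isPGroup_conj_map (g := k) (S.2.to_le c.core_le)) hR
  set n := c₀ * k with hn
  have hnS : ∀ q : Fin 128, q.1 < 32 → ∃ e, c.ι e = n * c.ι q * n⁻¹ := fun q hq => by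
    have := hc₀R _ (mem_map_of_mem (MulAut.conj k).toMonoidHom (c.mem_core.2 ⟨q, hq, rfl⟩))
    exact c.surj _ (by simpa [hn, mul_assoc] using this)
  choose f hf using hnS
  have hnc : ∀ q hq, (f q hq).1 < 32 := by
    intro q₀ hq₀
    by_contra hge
    set a := f q₀ hq₀ with ha
    set φ : {q : Fin 128 // q.1 < 32} → Fin 128 := fun q => f q.1 q.2 with hφ
    have hφinj : Function.Injective φ := fun p q e => Subtype.ext (c.inj (by
      have := congrArg c.ι e
      simp only [hφ, hf] at this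
      exact mul_left_cancel (mul_right_cancel this)))
    have hprops : ∀ p hp, (mulF (f p hp) (f p hp) = 0 ∨ mulF (f p hp) (f p hp) = 1) ∧
        (Com a (f p hp) ∨ mulF a (f p hp) = mulF 1 (mulF (f p hp) a)) := by
      intro p hp
      obtain ⟨hs, hc⟩ := core_facts.1 p hp
      have hzn : n * c.ι 1 * n⁻¹ = c.ι 1 := z_fix c hz n
      refine ⟨?_, ?_⟩
      · rcases hs with e | e
        · left
          rw [← c.eq_one_iff, c.map_mul, hf]
          calc n * c.ι p * n⁻¹ * (n * c.ι p * n⁻¹) = n * c.ι (mulF p p) * n⁻¹ := by rw [c.map_mul]; group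
            _ = 1 := by rw [e, c.map_zero]; group
        · right
          apply c.inj
          rw [c.map_mul, hf]
          calc n * c.ι p * n⁻¹ * (n * c.ι p * n⁻¹) = n * c.ι (mulF p p) * n⁻¹ := by rw [c.map_mul]; group
            _ = c.ι 1 := by rw [e, hzn]
      · obtain ⟨-, hc0⟩ := core_facts.1 q₀ hq₀
        rcases (hc0 p hp).1 with e | e
        · left
          rw [c.com_iff, ha, hf, hf]
          calc n * c.ι q₀ * n⁻¹ * (n * c.ι p * n⁻¹) = n * (c.ι q₀ * c.ι p) * n⁻¹ := by group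
            _ = n * (c.ι p * c.ι q₀) * n⁻¹ := by rw [c.com_iff.1 e]
            _ = n * c.ι p * n⁻¹ * (n * c.ι q₀ * n⁻¹) := by group
        · right
          apply c.inj
          have e' := congrArg c.ι e
          rw [c.map_mul, c.map_mul, c.map_mul] at e'
          rw [c.map_mul, c.map_mul, c.map_mul, ha, hf, hf]
          calc n * c.ι q₀ * n⁻¹ * (n * c.ι p * n⁻¹) = n * (c.ι q₀ * c.ι p) * n⁻¹ := by group
            _ = c.ι 1 * (n * (c.ι p * c.ι q₀) * n⁻¹) := by rw [e', conj_z_mul c hz]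
            _ = c.ι 1 * (n * c.ι p * n⁻¹ * (n * c.ι q₀ * n⁻¹)) := by group
    have hsqa : InZ (mulF a a) := (hprops q₀ hq₀).1.elim Or.inl fun e => Or.inr (Or.inl e)
    have hlt := core_unique a (by omega) hsqa
    have hle : ((Finset.univ : Finset {q : Fin 128 // q.1 < 32}).image φ) ⊆
        (Finset.univ : Finset (Fin 128)).filter fun y =>
          (mulF y y = 0 ∨ mulF y y = 1) ∧ (Com a y ∨ mulF a y = mulF 1 (mulF y a)) := by
      intro b hb
      obtain ⟨⟨p, hp⟩, -, rfl⟩ := Finset.mem_image.1 hb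
      exact Finset.mem_filter.2 ⟨Finset.mem_univ _, hprops p hp⟩
    have := Finset.card_le_card hle
    rw [Finset.card_image_of_injective _ hφinj, Finset.card_univ, Fintype.card_subtype, core_card] at this
    omega
  refine ⟨n, ?_, ?_⟩
  · have hle : c.core.map (MulAut.conj n).toMonoidHom ≤ c.core := by
      rintro _ ⟨_, ⟨q, hq, rfl⟩, rfl⟩
      exact ⟨_, hnc q hq, by simpa using hf q hq⟩
    have heq := eq_of_le_of_card_ge hle (card_conj_map n c.core).ge
    refine mem_normalizer_iff.2 fun g => ⟨fun hg => ?_, fun hg => ?_⟩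
    · have := hle (mem_map_of_mem (MulAut.conj n).toMonoidHom hg)
      simpa using this
    · rw [← heq] at hg
      have := mem_conj_map.1 hg
      simpa [mul_assoc] using this
  · refine atPt_comp c hz hkP ?_
    obtain ⟨y, hy, hye⟩ := (mem_pStab c hz).1 hc₀
    show c.AtPt (c₀ * c.ι 30 * c₀⁻¹) 4
    rw [hye]
    rcases hy with rfl | rfl
    · exact Or.inl rfl
    · exact Or.inr (congrArg c.ι swap_facts.2.2.1.symm)

/-- **the action of the normaliser of the core on the five points** -/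
theorem exists_pts (hfus : ∃ k : G, k * c.ι 2 * k⁻¹ = c.ι 30 ∨ k * c.ι 2 * k⁻¹ = c.ι 31) :
    Nonempty (Pts c) := by
  classical
  haveI : Fact (Nat.Prime 2) := ⟨Nat.prime_two⟩
  set N := normalizer (c.core : Set G) with hN
  have hex : ∀ (n : ↥N) (i : Fin 5), ∃ j, c.AtPt ((n : G) * c.ι (ptF i) * (n : G)⁻¹) j :=
    fun n i => exists_atPt c hz n.2 i
  choose τ hτ using hex
  have hmul : ∀ (m n : ↥N) (i : Fin 5), τ (n * m) i = τ n (τ m i) := fun m n i =>
    atPt_unique c hz (hτ (n * m) i) (atPt_comp c hz (hτ m i) (hτ n (τ m i)))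
  have hone : ∀ i : Fin 5, τ 1 i = i := fun i =>
    atPt_unique c hz (hτ 1 i) (Or.inl (by simp))
  let π : ↥N →* Equiv.Perm (Fin 5) := MonoidHom.mk'
    (fun n => ⟨τ n, τ n⁻¹, fun i => by rw [← hmul, inv_mul_cancel, hone],
      fun i => by rw [← hmul, mul_inv_cancel, hone]⟩)
    (fun a b => Equiv.ext fun i => hmul b a i)
  have hπ : ∀ (n : ↥N) i, π n i = τ n i := fun n i => rfl
  have hle : (S : Subgroup G) ≤ N := by
    intro s hs
    obtain ⟨x, rfl⟩ := c.surj s hs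
    refine mem_normalizer_iff.2 fun g => ⟨?_, fun hg => ?_⟩
    · rintro ⟨q, hq, rfl⟩
      exact ⟨_, core_facts.2 x q hq, c.map_cj x q⟩
    · obtain ⟨q, hq, hqe⟩ := hg
      refine ⟨_, core_facts.2 (invF x) q hq, ?_⟩
      rw [c.map_cj, c.map_inv, hqe]; group
  have hS : ∀ (x : Fin 128) (h : c.ι x ∈ N) (σ : Equiv.Perm (Fin 5)),
      (∀ i, cjF x (ptF i) = ptF (σ i) ∨ cjF x (ptF i) = mulF 1 (ptF (σ i))) → π ⟨c.ι x, h⟩ = σ := by
    intro x h σ hσ
    refine Equiv.ext fun i => ?_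
    rw [hπ]
    refine atPt_unique c hz (hτ ⟨c.ι x, h⟩ i) ?_
    show c.AtPt (c.ι x * c.ι (ptF i) * (c.ι x)⁻¹) (σ i)
    rw [← c.map_cj]
    rcases hσ i with e | e <;> rw [e]
    · exact Or.inl rfl
    · exact Or.inr rfl
  obtain ⟨hev, hnd, hlen, hlift, hreach⟩ := vList_facts
  have hrange_le : π.range ≤ alternatingGroup (Fin 5) := by
    let χ : ↥N →* ℤˣ := Equiv.Perm.sign.comp π
    have hSk : (S : Subgroup G).subgroupOf N ≤ χ.ker := by
      intro s hs
      obtain ⟨x, hx⟩ := c.surj _ hs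
      obtain ⟨σ, hσ, -, hσ'⟩ := syl_action x
      have hs' : s = ⟨c.ι x, hx ▸ s.2⟩ := Subtype.ext hx.symm
      rw [MonoidHom.mem_ker, hs']
      show Equiv.Perm.sign (π _) = 1
      rw [hS x _ σ hσ']
      exact hev σ hσ
    have h1 : χ.ker.index ∣ ((S : Subgroup G).subgroupOf N).index := index_dvd_of_le hSk
    have h2 : χ.ker.index ∣ 2 := by
      rw [index_ker]
      exact (card_subgroup_dvd_card χ.range).trans (by simp)
    have h3 : ¬ 2 ∣ ((S : Subgroup G).subgroupOf N).index :=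
      fun h => S.not_dvd_index (h.trans (relIndex_dvd_index_of_le hle))
    have h4 : χ.ker.index = 1 := by
      rcases (Nat.dvd_prime Nat.prime_two).1 h2 with e | e
      · exact e
      · rw [e] at h1; exact absurd h1 h3
    rintro _ ⟨n, rfl⟩
    rw [Equiv.Perm.mem_alternatingGroup]
    exact MonoidHom.mem_ker.1 (show n ∈ χ.ker by rw [index_eq_one.1 h4]; exact mem_top n)
  have hrange : π.range = alternatingGroup (Fin 5) := by
    obtain ⟨n₀, hn₀, hn₀e⟩ := exists_norm_move S c hz hfus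
    set I := π.range with hI
    have hV : ∀ σ ∈ vList, σ ∈ I := by
      intro σ hσ
      obtain ⟨x, hx⟩ := hlift σ hσ
      exact ⟨⟨c.ι x, hle (c.mem x)⟩, hS x _ σ hx⟩
    have h4 : 4 ∣ Nat.card ↥I := by
      let V : Subgroup (Equiv.Perm (Fin 5)) :=
        { carrier := {σ | σ ∈ vList}
          one_mem' := List.mem_cons_self
          mul_mem' := fun {a b} ha hb => (by decide +kernel : ∀ a ∈ vList, ∀ b ∈ vList, a * b ∈ vList) a ha b hb
          inv_mem' := fun {a} ha => (by decide +kernel : ∀ a ∈ vList, a⁻¹ ∈ vList) a ha }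
      have hVc : Nat.card ↥V = 4 := by
        rw [← hlen, ← List.toFinset_card_of_nodup hnd, ← Nat.card_eq_finsetCard]
        exact Nat.card_congr (Equiv.subtypeEquivRight fun σ => List.mem_toFinset.symm)
      exact hVc ▸ card_dvd_of_le (K := I) (H := V) fun σ hσ => hV σ hσ
    have h5 : 5 ∣ Nat.card ↥I := by
      have horb : MulAction.orbit ↥I (0 : Fin 5) = Set.univ := by
        refine Set.eq_univ_of_forall fun i => ?_
        by_cases hi : i = 4
        · subst hi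
          exact ⟨⟨π ⟨n₀, hn₀⟩, _, rfl⟩, atPt_unique c hz (hτ ⟨n₀, hn₀⟩ 0) hn₀e⟩
        · obtain ⟨σ, hσ, e⟩ := hreach i hi
          exact ⟨⟨σ, hV σ hσ⟩, e⟩
      have := Nat.card_congr (MulAction.orbitEquivQuotientStabilizer ↥I (0 : Fin 5))
      rw [horb, Nat.card_congr (Equiv.Set.univ (Fin 5)), Nat.card_fin] at this
      exact (dvd_of_eq this).trans (card_quotient_dvd_card _)
    have h20 : 20 ∣ Nat.card ↥I := (Nat.Coprime.mul_dvd_of_dvd_of_dvd (by norm_num) h4 h5 : 4 * 5 ∣ _)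
    set A := alternatingGroup (Fin 5)
    haveI : IsSimpleGroup ↥A := alternatingGroup.isSimpleGroup (by simp)
    have hA : Nat.card ↥A = 60 := by
      rw [nat_card_alternatingGroup, Nat.card_fin]; rfl
    have hidx := (I.subgroupOf A).card_mul_index
    rw [Nat.card_congr (subgroupOfEquivOfLe hrange_le).toEquiv, hA] at hidx
    obtain ⟨j, hj⟩ := h20
    have hj3 : j * (I.subgroupOf A).index = 3 := by rw [hj] at hidx; nlinarith
    have hd : (I.subgroupOf A).index ∣ 3 := ⟨j, by rw [← hj3]; ring⟩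
    rcases (Nat.dvd_prime (by norm_num : Nat.Prime 3)).1 hd with e | e
    · exact le_antisymm hrange_le (subgroupOf_eq_top.1 (index_eq_one.1 e))
    · exfalso
      rcases ((normalCore_normal (I.subgroupOf A))).eq_bot_or_eq_top with h | h
      · rw [normalCore_eq_ker] at h
        have hinj := (MonoidHom.ker_eq_bot_iff _).1 h
        have := Nat.card_le_card_of_injective _ hinj
        rw [Nat.card_perm, ← index_eq_card, e, hA] at this
        norm_num [Nat.factorial] at this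
      · have := normalCore_le (I.subgroupOf A)
        rw [h, top_le_iff] at this
        rw [this, index_top] at e
        norm_num at e
  refine ⟨⟨π, hrange, fun n i => hτ n i, fun n hn => ?_, hle, fun x hx h => ?_⟩⟩
  · have hfix : ∀ i : Fin 4, c.AtPt ((n : G) * c.ι (ptF i.castSucc) * (n : G)⁻¹) i.castSucc := fun i => by
      have e := hτ n i.castSucc
      rwa [← hπ, hn] at e
    obtain ⟨q, hq, hqe⟩ := signs_core fun i =>
      decide ((n : G) * c.ι (ptF i.castSucc) * (n : G)⁻¹ = c.ι (mulF 1 (ptF i.castSucc)))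
    refine ⟨c.ι q, c.mem_core.2 ⟨q, hq, rfl⟩, ?_⟩
    set m := (c.ι q)⁻¹ * (n : G) with hm
    have hgen : ∀ i : Fin 4, c.ι (ptF i.castSucc) ∈ centralizer ({m} : Set G) := by
      intro i
      have e : (n : G) * c.ι (ptF i.castSucc) * (n : G)⁻¹ = c.ι q * c.ι (ptF i.castSucc) * (c.ι q)⁻¹ := by
        rw [← c.map_cj, hqe i]
        by_cases hd : (n : G) * c.ι (ptF i.castSucc) * (n : G)⁻¹ = c.ι (mulF 1 (ptF i.castSucc))
        · simp only [hd, decide_true, if_true]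
        · simp only [hd, decide_false]
          exact (hfix i).resolve_right hd
      rw [mem_centralizer_singleton_iff]
      calc c.ι (ptF i.castSucc) * m
          = (c.ι q)⁻¹ * (c.ι q * c.ι (ptF i.castSucc) * (c.ι q)⁻¹) * (n : G) := by rw [hm]; group
        _ = m * c.ι (ptF i.castSucc) := by rw [← e, hm]; group
    rw [mem_centralizer_iff]
    rintro _ ⟨x, hx, rfl⟩
    have hmem : c.ι x ∈ centralizer ({m} : Set G) := by
      have h2 : c.ι 2 ∈ centralizer ({m} : Set G) := hgen 0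
      have h4 : c.ι 4 ∈ centralizer ({m} : Set G) := hgen 1
      have h8 : c.ι 8 ∈ centralizer ({m} : Set G) := hgen 2
      have h16 : c.ι 16 ∈ centralizer ({m} : Set G) := hgen 3
      have h1 : c.ι 1 ∈ centralizer ({m} : Set G) := mem_centralizer_singleton_iff.2 (hz m).symm
      have hk : ∀ k : Fin 5, c.ι ⟨2 ^ k.1 % 128, Nat.mod_lt _ (by norm_num)⟩ ∈ centralizer ({m} : Set G) := by
        intro k; fin_cases k
        exacts [h1, h2, h4, h8, h16]
      revert hx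
      induction x using WellFoundedLT.induction with
      | _ x ih =>
        intro hx
        rcases core_gens x hx with rfl | ⟨k, y, hy, rfl⟩
        · rw [c.map_zero]; exact one_mem _
        · rw [c.map_mul]
          exact mul_mem (hk k) (ih y hy (lt_trans hy hx))
    exact mem_centralizer_singleton_iff.1 hmem
  · obtain ⟨σ, -, hσne, hσ⟩ := syl_action x
    rw [hS x h σ hσ]
    exact hσne hx

end Finite

end CfsgLib.Invol.JTwoType
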