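import Cfsg.Agent.Lib.Invol.JTwoType.Core
import Cfsg.Agent.Lib.Invol.EightTypeThree.CentralB
import Cfsg.Agent.Lib.Invol.JTwo.Center
import Cfsg.Agent.Lib.Fusion.Tate

/-!
# The core of a Sylow two-subgroup of Hall-Janko type is normal

Modulo the central involution the group has three classes of involutions and the image of the
core is elementary of order sixteen with automiser alternating of degree five, so the theorem
on the normaliser of such a subgroup applies.
-/

set_option autoImplicit false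
set_option linter.style.haveILetI false
set_option linter.unusedSectionVars false
set_option maxRecDepth 100000
set_option synthInstance.maxSize 4000
set_option synthInstance.maxHeartbeats 80000

namespace CfsgLib.Invol.JTwoType

open Subgroup CfsgLib.Invol Equiv
open CfsgLib.ProdFusion (OC OC_le odd_card_OC le_OC le_normalizer_OC le_normalizer_OC_self)
open CfsgLib.Invol.EightTypeThree (P5 s₁)

universe u v

attribute [local instance 5000] List.decidableBAll List.decidableBEx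

theorem center_mod : ∀ x : Fin 128, (∀ y : Fin 128, Cong (mulF x y) (mulF y x)) → InZ x := by
  decide +kernel

theorem core_cent_code : ∀ x : Fin 128, (∀ y : Fin 128, y.1 < 32 → Com x y) → x = 0 ∨ x = 1 := by
  decide +kernel

theorem ptF_facts : (∀ i j : Fin 5, Cong (ptF i) (ptF j) → i = j) ∧ (∀ i : Fin 5, (ptF i).1 < 32) ∧
    ptF 4 = 30 ∧ ptF 0 = 2 := by decide +kernel

theorem core_types : ∀ x : Fin 128, x.1 < 32 → x = 0 ∨ x = 1 ∨
    (mulF x x = 0 ∧ ∃ i, Cong x (ptF i)) ∨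
      (mulF x x = 1 ∧ ∃ i j, i ≠ j ∧ Cong x (mulF (ptF i) (ptF j))) := by decide +kernel

theorem outer_sq : ∀ x : Fin 128, 32 ≤ x.1 → (mulF x x = 0 ∨ mulF x x = 1) → mulF x x = 0 := by
  decide +kernel

theorem outer_coset : ∀ q : Fin 128, q.1 < 32 → mulF (mulF 32 q) (mulF 32 q) = 0 →
    32 ≤ (mulF 32 q).1 ∧ ∃ r : Fin 128, r.1 < 32 ∧ Cong (cjF r 32) (mulF 32 q) := by decide +kernel

theorem const_facts : mulF 1 1 = 0 ∧ (1 : Fin 128) ≠ 0 ∧ mulF 30 30 = 0 ∧
    mulF (mulF 30 2) (mulF 30 2) = 1 ∧ mulF 32 32 = 0 ∧ mulF 33 33 = 0 ∧ mulF 1 32 = 33 ∧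
    (∀ x : Fin 128, x.1 < 32 → (mulF 1 x).1 < 32) ∧ ¬ Cong 30 0 ∧ ¬ Cong (mulF 30 2) 0 ∧ ¬ Cong 32 0 := by
  decide +kernel

/-- A group whose two-subgroups have order at most two splits over an involution in its centre. -/
theorem odd_split {K : Type u} [Group K] [Finite K] {H : Subgroup K} {z : K} (hz : z ∈ H)
    (hz2 : z * z = 1) (hz1 : z ≠ 1) (hle : ∀ R ≤ H, IsPGroup 2 ↥R → Nat.card R ≤ 2) :
    ∀ g ∈ H, g ∈ OC H ∨ ∃ d ∈ OC H, g = z * d := by
  classical
  haveI : Fact (Nat.Prime 2) := ⟨Nat.prime_two⟩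
  have hor : orderOf (⟨z, hz⟩ : ↥H) = 2 :=
    invol_iff.2 ⟨Subtype.ext hz2, fun e => hz1 (congrArg Subtype.val e)⟩
  have hzp : IsPGroup 2 (zpowers (⟨z, hz⟩ : ↥H)) :=
    IsPGroup.of_card (n := 1) (by rw [Nat.card_zpowers, hor, pow_one])
  obtain ⟨P, hP⟩ := hzp.exists_le_sylow
  have hPc : Nat.card (P : Subgroup ↥H) = 2 := by
    refine le_antisymm ?_ ?_
    · rw [← card_map_of_injective (K := (P : Subgroup ↥H)) (subtype_injective H)]
      exact hle _ (map_subtype_le _) (P.2.map _)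
    · calc 2 = Nat.card (zpowers (⟨z, hz⟩ : ↥H)) := by rw [Nat.card_zpowers, hor]
        _ ≤ _ := Subgroup.card_le_of_le hP
  obtain ⟨M, hMn, hM2, hzM⟩ := CfsgLib.Fusion.thompson_transfer P (Q := ⊥) bot_le
    (by rw [relIndex_bot_left, hPc]) (u := ⟨z, hz⟩) (by rw [pow_two]; exact Subtype.ext hz2)
    (fun g hg => hz1 (congrArg Subtype.val (conj_eq_one_iff.1 (mem_bot.1 hg))))
  have hodd : Odd (Nat.card M) := by
    rw [Nat.odd_iff, ← Nat.two_dvd_ne_zero]
    intro hd
    obtain ⟨x, hx⟩ := exists_prime_orderOf_dvd_card' 2 hd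
    have hxM : ((x : ↥H)) ∈ M := x.2
    have hx' : orderOf (x : ↥H) = 2 := by rw [Subgroup.orderOf_coe, hx]
    obtain ⟨k, hk⟩ := MulAction.exists_smul_eq ↥H
      ((IsPGroup.of_card (n := 1) (G := zpowers (x : ↥H))
        (by rw [Nat.card_zpowers, hx', pow_one])).exists_le_sylow).choose P
    have hin : k * (x : ↥H) * k⁻¹ ∈ (P : Subgroup ↥H) := by
      rw [← hk]
      exact Subgroup.smul_mem_pointwise_smul _ (MulAut.conj k) _
        (((IsPGroup.of_card (n := 1) (G := zpowers (x : ↥H))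
        (by rw [Nat.card_zpowers, hx', pow_one])).exists_le_sylow).choose_spec (mem_zpowers _))
    have hPz : (P : Subgroup ↥H) = zpowers (⟨z, hz⟩ : ↥H) :=
      (Subgroup.eq_of_le_of_card_ge hP (by rw [Nat.card_zpowers, hor, hPc])).symm
    rw [hPz, mem_zpowers_iff_mem_range_orderOf, hor] at hin
    simp only [Finset.mem_image, Finset.mem_range] at hin
    obtain ⟨m, hm, e⟩ := hin
    interval_cases m
    · rw [pow_zero] at e
      exact (invol_iff.1 hx').2 (conj_eq_one_iff.1 e.symm)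
    · rw [pow_one] at e
      exact hzM (e ▸ hMn.conj_mem _ hxM k)
  have hMO : M.map H.subtype ≤ OC H := le_OC (map_subtype_le _)
    (by rwa [card_map_of_injective (subtype_injective H)]) fun g hg => CfsgLib.ProdFusion.mem_of_forall_conj_mem (by
      rintro _ ⟨m, hm, rfl⟩
      exact ⟨⟨g, hg⟩ * m * ⟨g, hg⟩⁻¹, hMn.conj_mem m hm _, rfl⟩)
  intro g hg
  by_cases hgM : (⟨g, hg⟩ : ↥H) ∈ M
  · exact Or.inl (hMO ⟨_, hgM, rfl⟩)
  · refine Or.inr ⟨z * g, hMO ⟨⟨z, hz⟩ * ⟨g, hg⟩, ?_, rfl⟩, by rw [← mul_assoc, hz2, one_mul]⟩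
    exact (mul_mem_iff_of_index_two hM2).2 (iff_of_false hzM hgM)

section Setup

variable {K : Type u} [Group K] [Finite K] {S : Sylow 2 K} {c : Coord (S : Subgroup K)}
  (hz : ∀ g : K, g * c.ι 1 = c.ι 1 * g)
include hz

theorem z_sq : c.ι 1 * c.ι 1 = 1 := c.sq_iff.2 const_facts.1

theorem z_ne_one : c.ι 1 ≠ 1 := fun e => const_facts.2.1 (c.eq_one_iff.1 e)

theorem z_conj (g : K) : g * c.ι 1 * g⁻¹ = c.ι 1 := by rw [hz, mul_inv_cancel_right]

theorem core_cent_le {R : Subgroup K} (hR : R ≤ centralizer (c.core : Set K))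
    (hS : R ≤ (S : Subgroup K)) : Nat.card R ≤ 2 := by
  have h : ∀ r : ↥R, (r : K) = 1 ∨ (r : K) = c.ι 1 := fun r => by
    obtain ⟨x, hx⟩ := c.surj _ (hS r.2)
    rcases core_cent_code x (fun y hy => c.com_iff.2 (by
      rw [hx]; exact (mem_centralizer_iff.1 (hR r.2) _ ⟨y, hy, rfl⟩).symm)) with e | e
    · exact Or.inl (by rw [← hx, e, c.map_zero])
    · exact Or.inr (by rw [← hx, e])
  classical
  refine (Nat.card_le_card_of_injective (fun r : ↥R => decide ((r : K) = 1)) fun a b e => ?_).trans_eq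
    (by simp)
  rcases h a with ha | ha <;> rcases h b with hb | hb <;>
    simp [ha, hb, z_ne_one hz] at e <;> exact Subtype.ext (ha.trans hb.symm)

/-- the centraliser of the core is the centre times an odd group -/
theorem cent_core_split (hle : (S : Subgroup K) ≤ normalizer (c.core : Set K)) :
    ∀ g ∈ centralizer (c.core : Set K),
      g ∈ OC (centralizer (c.core : Set K)) ∨ ∃ d ∈ OC (centralizer (c.core : Set K)), g = c.ι 1 * d := by
  refine odd_split (mem_centralizer_iff.2 fun h _ => hz h) (z_sq hz) (z_ne_one hz) fun R hR hR2 => ?_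
  set N := normalizer (c.core : Set K) with hN
  have hRN : R ≤ N := hR.trans (CfsgLib.Coprime.centralizer_le_normalizer_self _)
  obtain ⟨Q, hQ⟩ := (hR2.comap_subtype (K := N)).exists_le_sylow
  obtain ⟨k, hk⟩ := MulAction.exists_smul_eq ↥N Q (S.subtype hle)
  have hkm : ∀ x : ↥N, x ∈ (S.subtype hle : Subgroup ↥N) → (x : K) ∈ (S : Subgroup K) := fun x hx => hx
  rw [← card_conj_map (k : K) R]
  refine core_cent_le hz (fun x hx => ?_) fun x hx => ?_
  · have h1 := CfsgLib.Coprime.normalizer_le_normalizer_centralizer c.core (N.inv_mem k.2)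
    exact (mem_normalizer_iff.1 h1 x).2 (by rw [inv_inv]; exact hR (mem_conj_map.1 hx))
  · have h1 := mem_conj_map.1 hx
    have h2 : k * ⟨(k : K)⁻¹ * x * k, hRN h1⟩ * k⁻¹ ∈ (S.subtype hle : Subgroup ↥N) := by
      rw [← hk]
      exact Subgroup.smul_mem_pointwise_smul _ (MulAut.conj k) _ (hQ h1)
    have h3 := hkm _ h2
    simpa [mul_assoc] using h3

variable (hp : Pts c)

theorem pi_ker (n : ↥(normalizer (c.core : Set K))) (h : hp.π n = 1) :
    ∃ q ∈ c.core, ∃ d ∈ OC (centralizer (c.core : Set K)), (n : K) = q * d := by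
  obtain ⟨q, hq, hc⟩ := hp.ker n h
  rcases cent_core_split hz hp.le _ hc with h1 | ⟨d, hd, e⟩
  · exact ⟨q, hq, _, h1, by group⟩
  · refine ⟨q * c.ι 1, c.core.mul_mem hq ⟨1, by decide, rfl⟩, d, hd, ?_⟩
    rw [mul_assoc, ← e]; group

theorem atPt_uniq {g : K} {i j : Fin 5} (hi : c.AtPt g i) (hj : c.AtPt g j) : i = j := by
  refine ptF_facts.1 i j ?_
  rcases hi with rfl | rfl <;> rcases hj with e | e <;> have e' := c.inj e
  · exact Or.inl e'
  · exact Or.inr e'
  · exact Or.inr (by rw [← e', (one_facts _).2.1])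
  · exact Or.inl (by rw [← (one_facts (ptF i)).2.1, e', (one_facts _).2.1])

theorem pi_eq_one (n : ↥(normalizer (c.core : Set K)))
    (h : ∀ i, c.AtPt ((n : K) * c.ι (ptF i) * (n : K)⁻¹) i) : hp.π n = 1 :=
  Equiv.ext fun i => (atPt_uniq hz (h i) (hp.equi n i)).symm

theorem pi_cent (n : ↥(normalizer (c.core : Set K))) (h : (n : K) ∈ centralizer (c.core : Set K)) :
    hp.π n = 1 :=
  pi_eq_one hz hp n fun i => Or.inl (by
    rw [← mem_centralizer_iff.1 h _ ⟨ptF i, ptF_facts.2.1 i, rfl⟩, mul_inv_cancel_right])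

theorem pi_core (n : ↥(normalizer (c.core : Set K))) (h : (n : K) ∈ c.core) : hp.π n = 1 :=
  pi_eq_one hz hp n fun i => by
    obtain ⟨q, hq, e⟩ := h
    rw [← e]
    rcases ((core_facts.1 q hq).2 _ (ptF_facts.2.1 i)).1 with h1 | h1
    · exact Or.inl (by rw [c.com_iff.1 h1, mul_inv_cancel_right])
    · refine Or.inr ?_
      rw [← c.map_mul, h1, c.map_mul, c.map_mul, c.map_mul, mul_assoc, mul_assoc, mul_inv_cancel,
        mul_one]

theorem exists_perm {σ : P5} (h : Perm.sign σ = 1) : ∃ n, hp.π n = σ :=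
  MonoidHom.mem_range.1 (hp.range ▸ Perm.mem_alternatingGroup.2 h)

theorem pi_even (n : ↥(normalizer (c.core : Set K))) : Perm.sign (hp.π n) = 1 :=
  Perm.mem_alternatingGroup.1 (hp.range ▸ MonoidHom.mem_range.2 ⟨n, rfl⟩)

include hp in
/-- an involution outside the core is conjugate to `32` up to the centre -/
theorem outer_conj {x : Fin 128} (hx : 32 ≤ x.1) (hxx : mulF x x = 0) :
    IsConj (c.ι x) (c.ι 32) ∨ IsConj (c.ι x) (c.ι 33) := by
  set N := normalizer (c.core : Set K) with hN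
  let X' : ↥N := ⟨c.ι x, hp.le (c.mem x)⟩
  let W : ↥N := ⟨c.ι 32, hp.le (c.mem 32)⟩
  have hinv : ∀ (y : ↥N), (y : K) * y = 1 → hp.π y * hp.π y = 1 := fun y hy => by
    rw [← map_mul, show y * y = 1 from Subtype.ext hy, map_one]
  have hW2 : (W : K) * W = 1 := c.sq_iff.2 const_facts.2.2.2.2.1
  have hX2 : (X' : K) * X' = 1 := c.sq_iff.2 hxx
  obtain ⟨τ, hτ, eτ⟩ := CfsgLib.Invol.EightTypeThree.invol_conj_s₁ _ (pi_even hz hp X') (hinv X' hX2)
    (hp.outer x hx _)
  obtain ⟨ρ, hρ, eρ⟩ := CfsgLib.Invol.EightTypeThree.invol_conj_s₁ _ (pi_even hz hp W) (hinv W hW2)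
    (hp.outer 32 le_rfl _)
  obtain ⟨a, rfl⟩ := exists_perm hz hp hτ
  obtain ⟨b, rfl⟩ := exists_perm hz hp hρ
  set y : ↥N := (b⁻¹ * a) * X' * (b⁻¹ * a)⁻¹ with hy
  have hπy : hp.π y = hp.π W := by
    rw [hy]
    simp only [map_mul, map_inv]
    calc (hp.π b)⁻¹ * hp.π a * hp.π X' * ((hp.π b)⁻¹ * hp.π a)⁻¹
        = (hp.π b)⁻¹ * (hp.π a * hp.π X' * (hp.π a)⁻¹) * hp.π b := by group
      _ = (hp.π b)⁻¹ * (hp.π b * hp.π W * (hp.π b)⁻¹) * hp.π b := by rw [eτ, eρ]
      _ = hp.π W := by group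
  obtain ⟨_, ⟨q, hq, rfl⟩, d, hd, he⟩ := pi_ker hz hp (W⁻¹ * y) (by rw [map_mul, map_inv, hπy, inv_mul_cancel])
  set C := centralizer (c.core : Set K) with hC
  set u := c.ι (mulF 32 q) with hu
  have hyu : (y : K) = u * d := by
    rw [hu, c.map_mul, mul_assoc, ← he]
    show (y : K) = (W : K) * ((W : K)⁻¹ * y)
    rw [mul_inv_cancel_left]
  have huN : u ∈ N := hp.le (c.mem _)
  have hd' : u⁻¹ * d * u ∈ OC C := (mem_normalizer_iff''.1
    (le_normalizer_OC _ (CfsgLib.Coprime.normalizer_le_normalizer_centralizer _ huN)) d).1 hd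
  have hy2 : (y : K) * y = 1 := by
    rw [hy]
    simp only [Subgroup.coe_mul, Subgroup.coe_inv]
    calc _ = (b : K)⁻¹ * a * ((X' : K) * X') * ((b : K)⁻¹ * a)⁻¹ := by group
      _ = 1 := by rw [hX2]; group
  have huu : u * u ∈ OC C := by
    have e : u * u = (u⁻¹ * d * u * d)⁻¹ := by
      rw [eq_inv_iff_mul_eq_one, ← hy2, hyu]; group
    rw [e]; exact inv_mem (mul_mem hd' hd)
  have hu2 : u * u = 1 := by
    haveI : Fact (Nat.Prime 2) := ⟨Nat.prime_two⟩
    obtain ⟨k, hk⟩ := orderOf_pow_two_of_mem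
      (show u * u ∈ (S : Subgroup K) from (S : Subgroup K).mul_mem (c.mem (mulF 32 q)) (c.mem (mulF 32 q)))
    exact eq_one_of_odd_of_pow_two (CfsgLib.ProdFusion.odd_orderOf_of_mem (odd_card_OC C) huu)
      (by rw [← hk]; exact pow_orderOf_eq_one _)
  obtain ⟨h32, r, -, hr⟩ := outer_coset q hq (c.sq_iff.1 hu2)
  have hu1 : u ≠ 1 := fun e => by
    rw [hu, c.eq_one_iff] at e
    rw [e] at h32
    simp at h32
  have hy1 : (y : K) ≠ 1 := fun e => by
    have h1 : hp.π y = 1 := by rw [show y = 1 from Subtype.ext e, map_one]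
    exact hp.outer 32 le_rfl _ (hπy.symm.trans h1)
  have hXy : IsConj (c.ι x) (y : K) := isConj_iff.2 ⟨((b⁻¹ * a : ↥N) : K), rfl⟩
  have huy : IsConj u (y : K) := isConj_of_odd (invol_iff.2 ⟨hu2, hu1⟩) (invol_iff.2 ⟨hy2, hy1⟩) (by
    rw [hyu, ← mul_assoc, hu2, one_mul]
    exact CfsgLib.ProdFusion.odd_orderOf_of_mem (odd_card_OC C) hd)
  have hxu := hXy.trans huy.symm
  rcases hr with e | e
  · refine Or.inl (hxu.trans (isConj_iff.2 ⟨c.ι r, ?_⟩).symm)
    rw [hu, ← c.map_cj, e]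
  · refine Or.inr (hxu.trans (isConj_iff.2 ⟨c.ι r, ?_⟩).symm)
    rw [← const_facts.2.2.2.2.2.2.1, c.map_mul, hu]
    calc c.ι r * (c.ι 1 * c.ι 32) * (c.ι r)⁻¹
        = (c.ι r * c.ι 1 * (c.ι r)⁻¹) * (c.ι r * c.ι 32 * (c.ι r)⁻¹) := by group
      _ = c.ι (mulF 32 q) := by
        rw [z_conj hz, ← c.map_cj, ← c.map_mul, e, (one_facts _).2.1]

section Quot

variable {X : Type u} [Group X] [Finite X] (φ : K →* X) (hs : Function.Surjective φ)
  (hk : ∀ g : K, φ g = 1 ↔ g = 1 ∨ g = c.ι 1)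
include hk

theorem phi_z : φ (c.ι 1) = 1 := (hk _).2 (Or.inr rfl)

theorem phi_eq {g h : K} : φ g = φ h ↔ g = h ∨ g = c.ι 1 * h := by
  constructor
  · intro e
    rcases (hk (g * h⁻¹)).1 (by rw [map_mul, map_inv, e, mul_inv_cancel]) with e1 | e1
    · exact Or.inl (mul_inv_eq_one.1 e1)
    · exact Or.inr (by rw [← e1, inv_mul_cancel_right])
  · rintro (rfl | rfl)
    · rfl
    · rw [map_mul, phi_z hz φ hk, one_mul]

theorem phi_code {x y : Fin 128} : φ (c.ι x) = φ (c.ι y) ↔ Cong x y := by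
  rw [phi_eq hz φ hk, ← c.map_mul, c.inj.eq_iff, c.inj.eq_iff]

theorem phi_code_one {x : Fin 128} : φ (c.ι x) = 1 ↔ Cong x 0 := by
  rw [← phi_code hz φ hk (c := c) (y := 0), c.map_zero, map_one]

theorem phi_pt {n : ↥(normalizer (c.core : Set K))} (i : Fin 5) :
    φ n * φ (c.ι (ptF i)) * (φ n)⁻¹ = φ (c.ι (ptF (hp.π n i))) := by
  rw [← map_mul, ← map_inv, ← map_mul]
  rcases hp.equi n i with e | e <;> rw [e]
  rw [c.map_mul, map_mul, phi_z hz φ hk, one_mul]

theorem mem_image {g : K} : φ g ∈ c.core.map φ ↔ g ∈ c.core := by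
  refine ⟨?_, mem_map_of_mem φ⟩
  rintro ⟨q, hq, e⟩
  rcases (phi_eq hz φ hk).1 e.symm with rfl | rfl
  · exact hq
  · exact c.core.mul_mem ⟨1, by decide, rfl⟩ hq

include hs

theorem normalizer_image :
    normalizer (c.core.map φ : Set X) = (normalizer (c.core : Set K)).map φ := by
  ext m
  obtain ⟨g, rfl⟩ := hs m
  constructor
  · intro hg
    refine mem_map_of_mem φ (mem_normalizer_iff.2 fun q => ?_)
    rw [← mem_image hz φ hk (g := g * q * g⁻¹), ← mem_image hz φ hk (g := q), map_mul, map_mul, map_inv]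
    exact mem_normalizer_iff.1 hg _
  · rintro ⟨n, hn, e⟩
    refine e ▸ mem_normalizer_iff.2 fun m => ?_
    obtain ⟨h, rfl⟩ := hs m
    rw [← map_inv, ← map_mul, ← map_mul, mem_image hz φ hk, mem_image hz φ hk]
    exact mem_normalizer_iff.1 hn _

theorem card_image : Nat.card (c.core.map φ) = 16 := by
  set f := φ.comp c.core.subtype
  have hr : f.range = c.core.map φ := by rw [MonoidHom.range_comp, range_subtype]
  have hker : Nat.card f.ker = 2 := by
    rw [← card_map_of_injective (K := f.ker) (subtype_injective c.core)]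
    have e : f.ker.map c.core.subtype = zpowers (c.ι 1) := by
      refine le_antisymm ?_ ((zpowers_le).2 ⟨⟨c.ι 1, 1, by decide, rfl⟩, phi_z hz φ hk, rfl⟩)
      rintro _ ⟨q, hq, rfl⟩
      show (q : K) ∈ _
      rcases (hk (q : K)).1 hq with e | e <;> rw [e]
      · exact one_mem _
      · exact mem_zpowers _
    rw [e, Nat.card_zpowers, orderOf_eq_prime (by rw [pow_two]; exact z_sq hz) (z_ne_one hz)]
  have h := f.ker.card_mul_index
  rw [index_ker, hr, hker, c.card_core] at h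
  omega

theorem elementary_image : Cfsg.IsElementaryAbelian 2 (c.core.map φ) := by
  refine ⟨⟨⟨?_⟩⟩, ?_⟩
  · rintro ⟨_, _, ⟨x, hx, rfl⟩, rfl⟩ ⟨_, _, ⟨y, hy, rfl⟩, rfl⟩
    refine Subtype.ext ?_
    show φ (c.ι x) * φ (c.ι y) = φ (c.ι y) * φ (c.ι x)
    rw [← map_mul, ← map_mul, ← c.map_mul, ← c.map_mul, phi_code hz φ hk]
    exact ((core_facts.1 x hx).2 y hy).1
  · rintro _ ⟨_, ⟨x, hx, rfl⟩, rfl⟩
    rw [pow_two, ← map_mul, ← c.map_mul, phi_code_one hz φ hk]
    rcases (core_facts.1 x hx).1 with e | e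
    · exact Or.inl e
    · exact Or.inr (by rw [e]; rfl)

include hp in
theorem classes {u : X} (hu : orderOf u = 2) :
    IsConj (φ (c.ι 30)) u ∨ IsConj (φ (c.ι (mulF 30 2))) u ∨ IsConj (φ (c.ι 32)) u := by
  haveI : Fact (Nat.Prime 2) := ⟨Nat.prime_two⟩
  obtain ⟨k, hk'⟩ := exists_conj_le_sylow
    (IsPGroup.of_card (n := 1) (G := zpowers u) (by rw [Nat.card_zpowers, hu, pow_one]))
    (S.mapSurjective hs)
  obtain ⟨_, hsS, e⟩ := hk' u (mem_zpowers u)
  obtain ⟨x, rfl⟩ := c.surj _ hsS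
  have hc : IsConj u (φ (c.ι x)) := isConj_iff.2 ⟨k, e.symm⟩
  have ho : orderOf (φ (c.ι x)) = 2 := e ▸ invol_conj hu k
  have hx1 : ¬ Cong x 0 := fun h => invol_ne_one ho ((phi_code_one hz φ hk).2 h)
  have hxx : mulF x x = 0 ∨ mulF x x = 1 := by
    have h := invol_mul_self ho
    rw [← map_mul, ← c.map_mul, phi_code_one hz φ hk] at h
    rcases h with h | h
    · exact Or.inl h
    · exact Or.inr (by rw [h]; decide +kernel)
  have hconj : ∀ {n : ↥(normalizer (c.core : Set K))} {a b : X}, φ n * a * (φ n)⁻¹ = b → IsConj b a :=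
    fun h => (isConj_iff.2 ⟨_, h⟩).symm
  by_cases hx : x.1 < 32
  · rcases core_types x hx with rfl | rfl | ⟨-, i, hi⟩ | ⟨-, i, j, hij, hi⟩
    · exact absurd (Or.inl rfl) hx1
    · exact absurd (Or.inr (by decide +kernel)) hx1
    · left
      obtain ⟨σ, hσ, hσi, -⟩ : ∃ σ : P5, Perm.sign σ = 1 ∧ σ i = 4 ∧ True := by
        by_cases h : i = 4
        · exact ⟨1, map_one _, h, trivial⟩
        · obtain ⟨σ, h1, h2, -⟩ := CfsgLib.Invol.EightTypeThree.two_transitive i 4 h 0 (by decide)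
          exact ⟨σ, h1, h2, trivial⟩
      obtain ⟨n, rfl⟩ := exists_perm hz hp hσ
      have e1 := phi_pt hz hp φ hk (n := n) i
      rw [hσi, ptF_facts.2.2.1, ← (phi_code hz φ hk).2 hi] at e1
      exact (hconj e1).trans hc.symm
    · right; left
      obtain ⟨σ, hσ, hσi, hσj⟩ := CfsgLib.Invol.EightTypeThree.two_transitive i j hij 0 (by decide)
      obtain ⟨n, rfl⟩ := exists_perm hz hp hσ
      have e1 := phi_pt hz hp φ hk (n := n) i
      have e2 := phi_pt hz hp φ hk (n := n) j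
      rw [hσi, ptF_facts.2.2.1] at e1
      rw [hσj, ptF_facts.2.2.2] at e2
      refine (hconj (n := n) ?_).trans hc.symm
      rw [(phi_code hz φ hk).2 hi, c.map_mul, map_mul, c.map_mul, map_mul, ← e1, ← e2]
      group
  · right; right
    have h33 : φ (c.ι 33) = φ (c.ι 32) := (phi_code hz φ hk).2 (Or.inr const_facts.2.2.2.2.2.2.1.symm)
    rcases outer_conj hz hp (not_lt.1 hx) (outer_sq x (not_lt.1 hx) hxx) with h | h
    · exact ((φ.map_isConj h).symm).trans hc.symm
    · have h' := φ.map_isConj h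
      rw [h33] at h'
      exact h'.symm.trans hc.symm

include hp in
theorem three_classes
    (hw : ∀ x, IsW x → ∀ k : K, k * c.ι x * k⁻¹ ≠ c.ι 30 ∧ k * c.ι x * k⁻¹ ≠ c.ι 31) :
    Nat.card {d : ConjClasses X // ∃ x ∈ d.carrier, orderOf x = 2} = 3 := by
  haveI : Fact (Nat.Prime 2) := ⟨Nat.prime_two⟩
  obtain ⟨-, -, h30, hb, h32, h33, e33, -, n30, nb, n32⟩ := const_facts
  have hord : ∀ x : Fin 128, (mulF x x = 0 ∨ mulF x x = 1) → ¬ Cong x 0 → orderOf (φ (c.ι x)) = 2 := by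
    intro x hx hn
    refine invol_iff.2 ⟨?_, fun e => hn ((phi_code_one hz φ hk).1 e)⟩
    rw [← map_mul, ← c.map_mul, phi_code_one hz φ hk]
    rcases hx with e | e
    · exact Or.inl e
    · exact Or.inr (by rw [e]; decide +kernel)
  have hlift : ∀ {x y : Fin 128}, IsConj (φ (c.ι x)) (φ (c.ι y)) →
      ∃ k : K, k * c.ι x * k⁻¹ = c.ι y ∨ k * c.ι x * k⁻¹ = c.ι 1 * c.ι y := by
    intro x y h
    obtain ⟨m, hm⟩ := isConj_iff.1 h
    obtain ⟨k, rfl⟩ := hs m
    exact ⟨k, (phi_eq hz φ hk).1 (by rw [map_mul, map_mul, map_inv, hm])⟩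
  have hsq : ∀ {x y : Fin 128}, IsConj (φ (c.ι x)) (φ (c.ι y)) →
      ∃ k : K, k * c.ι (mulF x x) * k⁻¹ = c.ι (mulF y y) := by
    intro x y h
    obtain ⟨k, h⟩ := hlift h
    refine ⟨k, ?_⟩
    rw [c.map_mul, c.map_mul]
    have e : k * (c.ι x * c.ι x) * k⁻¹ = k * c.ι x * k⁻¹ * (k * c.ι x * k⁻¹) := by group
    rw [e]
    rcases h with h | h <;> rw [h]
    rw [mul_assoc, ← mul_assoc (c.ι y), hz, mul_assoc, ← mul_assoc (c.ι 1), z_sq hz, one_mul]
  have d1 : ¬ IsConj (φ (c.ι 30)) (φ (c.ι (mulF 30 2))) := fun h => by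
    obtain ⟨k, e⟩ := hsq h
    rw [h30, hb, c.map_zero, mul_one, mul_inv_cancel] at e
    exact z_ne_one hz e.symm
  have d2 : ¬ IsConj (φ (c.ι 30)) (φ (c.ι 32)) := fun h => by
    obtain ⟨k, e⟩ := hlift h
    rw [← c.map_mul, e33] at e
    rcases e with e | e
    · exact (hw 32 ⟨le_rfl, h32⟩ k⁻¹).1 (by rw [← e]; group)
    · exact (hw 33 ⟨by decide, h33⟩ k⁻¹).1 (by rw [← e]; group)
  have d3 : ¬ IsConj (φ (c.ι (mulF 30 2))) (φ (c.ι 32)) := fun h => by
    obtain ⟨k, e⟩ := hsq h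
    rw [hb, h32, c.map_zero, conj_eq_one_iff] at e
    exact z_ne_one hz e
  have o0 := hord 30 (Or.inl h30) n30
  have o1 := hord _ (Or.inr hb) nb
  have o2 := hord 32 (Or.inl h32) n32
  let r : Fin 3 → {d : ConjClasses X // ∃ x ∈ d.carrier, orderOf x = 2} :=
    ![⟨_, _, ConjClasses.mem_carrier_mk, o0⟩, ⟨_, _, ConjClasses.mem_carrier_mk, o1⟩,
      ⟨_, _, ConjClasses.mem_carrier_mk, o2⟩]
  refine ((Nat.card_congr (Equiv.ofBijective r ⟨?_, ?_⟩)).symm).trans (Nat.card_fin 3)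
  · intro i j h
    have h' := congrArg Subtype.val h
    fin_cases i <;> fin_cases j <;> first
      | rfl
      | exact absurd (ConjClasses.mk_eq_mk_iff_isConj.1 h') d1
      | exact absurd (ConjClasses.mk_eq_mk_iff_isConj.1 h').symm d1
      | exact absurd (ConjClasses.mk_eq_mk_iff_isConj.1 h') d2
      | exact absurd (ConjClasses.mk_eq_mk_iff_isConj.1 h').symm d2
      | exact absurd (ConjClasses.mk_eq_mk_iff_isConj.1 h') d3
      | exact absurd (ConjClasses.mk_eq_mk_iff_isConj.1 h').symm d3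
  · rintro ⟨d, g, hgd, hg⟩
    have hd : d = ConjClasses.mk g := (ConjClasses.mem_carrier_iff_mk_eq.1 hgd).symm
    rcases classes hz hp φ hs hk hg with h | h | h
    · exact ⟨0, Subtype.ext ((ConjClasses.mk_eq_mk_iff_isConj.2 h).trans hd.symm)⟩
    · exact ⟨1, Subtype.ext ((ConjClasses.mk_eq_mk_iff_isConj.2 h).trans hd.symm)⟩
    · exact ⟨2, Subtype.ext ((ConjClasses.mk_eq_mk_iff_isConj.2 h).trans hd.symm)⟩

include hp in
theorem automiser_image :
    ∃ (_ : ((c.core.map φ).subgroupOf (normalizer (c.core.map φ : Set X)) ⊔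
        Cfsg.oddCore ↥(normalizer (c.core.map φ : Set X))).Normal),
      Nonempty (↥(normalizer (c.core.map φ : Set X)) ⧸
        ((c.core.map φ).subgroupOf (normalizer (c.core.map φ : Set X)) ⊔
          Cfsg.oddCore ↥(normalizer (c.core.map φ : Set X))) ≃* ↥(alternatingGroup (Fin 5))) := by
  set N := normalizer (c.core : Set K) with hN
  set N' := normalizer (c.core.map φ : Set X) with hN'
  have eN : N' = N.map φ := normalizer_image hz φ hs hk
  let ψ : ↥N →* ↥N' := (φ.comp N.subtype).codRestrict N' fun n => eN ▸ mem_map_of_mem φ n.2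
  have hψ : Function.Surjective ψ := by
    rintro ⟨m, hm⟩
    rw [eN] at hm
    obtain ⟨n, hn, rfl⟩ := hm
    exact ⟨⟨n, hn⟩, rfl⟩
  let πA : ↥N →* ↥(alternatingGroup (Fin 5)) :=
    hp.π.codRestrict _ fun n => Perm.mem_alternatingGroup.2 (pi_even hz hp n)
  have hψk : ψ.ker ≤ πA.ker := fun n hn => by
    refine Subtype.ext (pi_cent hz hp n (mem_centralizer_iff.2 fun q _ => ?_))
    rcases (hk (n : K)).1 (congrArg Subtype.val hn) with e | e <;> rw [e]
    · rw [mul_one, one_mul]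
    · exact hz q
  let f : ↥N' →* ↥(alternatingGroup (Fin 5)) := MonoidHom.liftOfSurjective ψ hψ ⟨πA, hψk⟩
  have hf : ∀ n, f (ψ n) = πA n := fun n => MonoidHom.liftOfRightInverse_comp_apply _ _ _ _ n
  have hfs : Function.Surjective f := fun σ => by
    obtain ⟨n, hn⟩ := exists_perm hz hp (Perm.mem_alternatingGroup.1 σ.2)
    exact ⟨ψ n, (hf n).trans (Subtype.ext hn)⟩
  set A' := (c.core.map φ).subgroupOf N' with hA'
  set O := Cfsg.oddCore ↥N' with hO
  haveI : O.Normal := by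
    haveI := CfsgLib.Coprime.pPrimeCore_characteristic (G := ↥N') 2
    infer_instance
  set D := OC (centralizer (c.core : Set K)) with hD
  have hker : f.ker = A' ⊔ O := by
    refine le_antisymm (fun m hm => ?_) (sup_le (fun m hm => ?_) ?_)
    · obtain ⟨n, rfl⟩ := hψ m
      rw [MonoidHom.mem_ker, hf] at hm
      obtain ⟨q, hq, d, hd, e⟩ := pi_ker hz hp n (congrArg Subtype.val hm)
      have hqN : q ∈ N := hp.le (c.core_le hq)
      have hDN : D ≤ N := (OC_le _).trans (CfsgLib.Coprime.centralizer_le_normalizer_self _)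
      have hn : n = ⟨q, hqN⟩ * ⟨d, hDN hd⟩ := Subtype.ext e
      rw [hn, map_mul]
      refine mul_mem (mem_sup_left (mem_subgroupOf.2 (mem_map_of_mem φ hq))) (mem_sup_right ?_)
      set D' := (D.subgroupOf N).map ψ with hD'
      have hDn : (D.subgroupOf N).Normal := normal_subgroupOf_of_le_normalizer
        ((CfsgLib.Coprime.normalizer_le_normalizer_centralizer _).trans (le_normalizer_OC _))
      haveI : D'.Normal := Subgroup.Normal.map hDn ψ hψ
      have hodd : Odd (Nat.card D') := by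
        refine Odd.of_dvd_nat ?_ (Subgroup.card_map_dvd (D.subgroupOf N) ψ)
        rw [Nat.card_congr (subgroupOfEquivOfLe hDN).toEquiv]
        exact odd_card_OC _
      exact CfsgLib.Coprime.le_pPrimeCore (Nat.coprime_two_right.2 hodd) (mem_map_of_mem ψ hd)
    · obtain ⟨n, rfl⟩ := hψ m
      rw [MonoidHom.mem_ker, hf]
      exact Subtype.ext (pi_core hz hp n ((mem_image hz φ hk).1 (mem_subgroupOf.1 hm)))
    · have hOodd : Odd (Nat.card O) :=
        CfsgLib.ProdFusion.odd_iff_coprime.2 (CfsgLib.Coprime.pPrimeCore_coprime Nat.prime_two)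
      haveI : (O.map f).Normal := Subgroup.Normal.map inferInstance f hfs
      rcases IsSimpleGroup.eq_bot_or_eq_top_of_normal (O.map f) inferInstance with h | h
      · intro m hm
        rw [MonoidHom.mem_ker, ← mem_bot, ← h]
        exact mem_map_of_mem f hm
      · exfalso
        have h1 : Odd (Nat.card (O.map f)) := Odd.of_dvd_nat hOodd (Subgroup.card_map_dvd O f)
        rw [h, card_top, Nat.card_eq_fintype_card] at h1
        have h2 := two_mul_card_alternatingGroup (α := Fin 5)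
        rw [Fintype.card_perm, Fintype.card_fin, show (5 : ℕ).factorial = 120 from rfl] at h2
        rw [show Fintype.card ↥(alternatingGroup (Fin 5)) = 60 by omega] at h1
        exact absurd h1 (by decide)
  have hn : (A' ⊔ O).Normal := hker ▸ f.normal_ker
  haveI := hn
  exact ⟨hn, ⟨(QuotientGroup.quotientMulEquivOfEq hker.symm).trans
    (QuotientGroup.quotientKerEquivOfSurjective f hfs)⟩⟩

include hp in
theorem normal_core (hO : Cfsg.oddCore K = ⊥)
    (hw : ∀ x, IsW x → ∀ k : K, k * c.ι x * k⁻¹ ≠ c.ι 30 ∧ k * c.ι x * k⁻¹ ≠ c.ι 31) :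
    c.core.Normal := by
  haveI : Fact (Nat.Prime 2) := ⟨Nat.prime_two⟩
  set S' := S.mapSurjective hs with hS'
  have hS64 : Nat.card (S' : Subgroup X) = 2 ^ 6 := by
    show Nat.card ((S : Subgroup K).map φ) = _
    set f := φ.comp (S : Subgroup K).subtype
    have hr : f.range = (S : Subgroup K).map φ := by rw [MonoidHom.range_comp, range_subtype]
    have hker : Nat.card f.ker = 2 := by
      rw [← card_map_of_injective (K := f.ker) (subtype_injective (S : Subgroup K))]
      have e : f.ker.map (S : Subgroup K).subtype = zpowers (c.ι 1) := by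
        refine le_antisymm ?_ ((zpowers_le).2 ⟨⟨c.ι 1, c.mem 1⟩, phi_z hz φ hk, rfl⟩)
        rintro _ ⟨q, hq, rfl⟩
        show (q : K) ∈ _
        rcases (hk (q : K)).1 hq with e | e <;> rw [e]
        · exact one_mem _
        · exact mem_zpowers _
      rw [e, Nat.card_zpowers, orderOf_eq_prime (by rw [pow_two]; exact z_sq hz) (z_ne_one hz)]
    have h := f.ker.card_mul_index
    rw [index_ker, hr, hker, c.card_eq] at h
    omega
  have huniq : ∀ a b : ↥(S' : Subgroup X), a ≠ 1 → b ≠ 1 → (∀ d, a * d = d * a) →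
      (∀ d, b * d = d * b) → a = b := by
    have key : ∀ a : ↥(S' : Subgroup X), a ≠ 1 → (∀ d, a * d = d * a) → (a : X) = φ (c.ι 30) := by
      intro a ha hc
      obtain ⟨_, hsS, e⟩ := a.2
      obtain ⟨x, rfl⟩ := c.surj _ hsS
      have h : InZ x := center_mod x fun y => by
        rw [← phi_code hz φ hk, c.map_mul, c.map_mul, map_mul, map_mul, e]
        exact congrArg Subtype.val (hc ⟨_, mem_map_of_mem φ (c.mem y)⟩)
      rw [← e, phi_code hz φ hk]
      have hne : ¬ Cong x 0 := fun h1 => ha (Subtype.ext (e.symm.trans ((phi_code_one hz φ hk).2 h1)))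
      rcases h with rfl | rfl | rfl | rfl
      · exact absurd (Or.inl rfl) hne
      · exact absurd (Or.inr (by decide +kernel)) hne
      · exact Or.inl rfl
      · exact Or.inr (by decide +kernel)
    exact fun a b ha hb hca hcb => Subtype.ext ((key a ha hca).trans (key b hb hcb).symm)
  obtain ⟨F, hF⟩ := CfsgLib.Invol.EightTypeThree.exists_frame_of S' hS64 huniq
    (three_classes hz hp φ hs hk hw) (c.core.map φ) (elementary_image hz φ hs hk)
    (card_image hz φ hs hk) (automiser_image hz hp φ hs hk)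
  have hsup := F.sup_normal
  rw [hF] at hsup
  -- the odd core of the quotient is trivial
  have hOX : Cfsg.oddCore X = ⊥ := by
    haveI : (Cfsg.oddCore X).Normal := by
      haveI := CfsgLib.Coprime.pPrimeCore_characteristic (G := X) 2
      infer_instance
    have hodd : Odd (Nat.card (Cfsg.oddCore X)) :=
      CfsgLib.ProdFusion.odd_iff_coprime.2 (CfsgLib.Coprime.pPrimeCore_coprime Nat.prime_two)
    set H := (Cfsg.oddCore X).comap φ with hH
    have hsplit := odd_split (H := H) (z := c.ι 1) (by show φ (c.ι 1) ∈ Cfsg.oddCore X; rw [phi_z hz φ hk]; exact one_mem _)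
      (z_sq hz) (z_ne_one hz) fun R hR hR2 => by
        have h : ∀ r : ↥R, (r : K) = 1 ∨ (r : K) = c.ι 1 := fun r => (hk _).1 (by
          obtain ⟨k, hk2⟩ := hR2 r
          exact eq_one_of_odd_of_pow_two (CfsgLib.ProdFusion.odd_orderOf_of_mem hodd (hR r.2))
            (k := k) (by rw [← map_pow, ← Subgroup.coe_pow, hk2, OneMemClass.coe_one, map_one]))
        classical
        refine (Nat.card_le_card_of_injective (fun r : ↥R => decide ((r : K) = 1)) fun a b e => ?_).trans_eq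
          (by simp)
        rcases h a with ha | ha <;> rcases h b with hb | hb <;>
          simp [ha, hb, z_ne_one hz] at e <;> exact Subtype.ext (ha.trans hb.symm)
    have hD : OC H = ⊥ := by
      haveI : (OC H).Normal := normalizer_eq_top_iff.1 (top_le_iff.1
        ((normalizer_eq_top_iff.2 (inferInstance : H.Normal)).ge.trans (le_normalizer_OC H)))
      exact eq_bot_iff.2 ((CfsgLib.Coprime.le_pPrimeCore (Nat.coprime_two_right.2 (odd_card_OC H))).trans hO.le)
    refine eq_bot_iff.2 fun m hm => ?_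
    obtain ⟨g, rfl⟩ := hs m
    refine mem_bot.2 ((hk g).2 ?_)
    rw [hD] at hsplit
    rcases hsplit g hm with h | ⟨d, hd, e⟩
    · exact Or.inl (mem_bot.1 h)
    · exact Or.inr (by rw [e, mem_bot.1 hd, mul_one])
  rw [hOX, sup_bot_eq] at hsup
  refine ⟨fun q hq g => (mem_image hz φ hk).1 ?_⟩
  rw [map_mul, map_mul, map_inv]
  exact hsup.conj_mem _ (mem_map_of_mem φ hq) _

end Quot

end Setup

/-- **the centre modulo the odd core is of Hall-Janko shape** -/
theorem exists_prehyp {K : Type u} [Group K] [Finite K] (S : Sylow 2 K) (c : Coord (S : Subgroup K))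
    (hz : ∀ g : K, g * c.ι 1 = c.ι 1 * g) (hO : Cfsg.oddCore K = ⊥)
    (hw : ∀ x, IsW x → ∀ k : K, k * c.ι x * k⁻¹ ≠ c.ι 30 ∧ k * c.ι x * k⁻¹ ≠ c.ι 31) (hp : Pts c) :
    CfsgLib.Invol.JTwo.PreHyp (c.ι 1) c.core ∧ ∃ x, CfsgLib.Invol.JTwo.Out (c.ι 1) c.core x := by
  haveI : (zpowers (c.ι 1)).Normal := ⟨by
    rintro _ ⟨j, rfl⟩ g
    exact ⟨j, by rw [← conj_zpow, z_conj hz]⟩⟩
  classical
  haveI hnc : c.core.Normal := normal_core hz hp (QuotientGroup.mk' (zpowers (c.ι 1)))
    (QuotientGroup.mk'_surjective _) (fun g => by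
      rw [← MonoidHom.mem_ker, QuotientGroup.ker_mk', mem_zpowers_iff_mem_range_orderOf,
        orderOf_eq_prime (by rw [pow_two]; exact z_sq hz) (z_ne_one hz)]
      simp [Finset.range_add_one, or_comm]) hO hw
  have hN : normalizer (c.core : Set K) = ⊤ := normalizer_eq_top_iff.2 hnc
  have hall : ∀ g : K, g ∈ centralizer ({c.ι 1} : Set K) := fun g => mem_centralizer_singleton_iff.2 (hz g)
  have hD : OC (centralizer (c.core : Set K)) = ⊥ := by
    haveI : (OC (centralizer (c.core : Set K))).Normal := normalizer_eq_top_iff.1 (top_le_iff.1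
      (hN.ge.trans ((CfsgLib.Coprime.normalizer_le_normalizer_centralizer _).trans (le_normalizer_OC _))))
    exact eq_bot_iff.2 ((CfsgLib.Coprime.le_pPrimeCore (Nat.coprime_two_right.2 (odd_card_OC _))).trans hO.le)
  have h1 : c.ι 1 ∈ c.core := ⟨1, by decide, rfl⟩
  refine ⟨⟨invol_iff.2 ⟨z_sq hz, z_ne_one hz⟩, fun a _ => hall a, fun g _ a ha => hnc.conj_mem a ha g,
    c.card_core, h1, ?_, ?_, ?_, ?_, ?_⟩, c.ι 32, hall _, ?_, c.sq_iff.2 const_facts.2.2.2.2.1⟩
  · rintro _ ⟨x, hx, rfl⟩ _ ⟨y, hy, rfl⟩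
    rcases ((core_facts.1 x hx).2 y hy).1 with h | h
    · exact Or.inl (c.com_iff.1 h)
    · exact Or.inr (by rw [← c.map_mul, h, c.map_mul, c.map_mul])
  · rintro _ ⟨x, hx, rfl⟩
    rw [← c.map_mul]
    rcases (core_facts.1 x hx).1 with h | h <;> rw [h]
    · exact Or.inl c.map_zero
    · exact Or.inr rfl
  · rintro _ ⟨x, hx, rfl⟩ hc
    rcases core_cent_code x (fun y hy => c.com_iff.2 (hc _ ⟨y, hy, rfl⟩)) with rfl | rfl
    · exact Or.inl c.map_zero
    · exact Or.inr rfl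
  · intro g _ hg
    rcases cent_core_split hz hp.le g (mem_centralizer_iff.2 fun a ha => (hg a ha).symm) with h | ⟨d, hd, e⟩
    · rw [hD, mem_bot] at h; exact h ▸ one_mem _
    · rw [hD, mem_bot] at hd; rw [e, hd, mul_one]; exact h1
  · let m : ↥(centralizer ({c.ι 1} : Set K)) →* ↥(normalizer (c.core : Set K)) :=
      (centralizer ({c.ι 1} : Set K)).subtype.codRestrict _ fun g => by rw [hN]; exact mem_top _
    refine ⟨(hp.π.comp m).codRestrict _ fun g => Perm.mem_alternatingGroup.2 (pi_even hz hp _), ?_, ?_⟩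
    · intro σ
      obtain ⟨n, hn⟩ := exists_perm hz hp (Perm.mem_alternatingGroup.1 σ.2)
      exact ⟨⟨n, hall _⟩, Subtype.ext hn⟩
    · intro g
      refine ⟨fun h => ?_, fun h => Subtype.ext (pi_core hz hp (m g) h)⟩
      obtain ⟨q, hq, d, hd, e⟩ := pi_ker hz hp (m g) (congrArg Subtype.val h)
      rw [hD, mem_bot] at hd
      show ((m g : ↥(normalizer (c.core : Set K))) : K) ∈ c.core
      rw [e, hd, mul_one]; exact hq
  · rintro ⟨x, hx, e⟩
    rw [c.inj e] at hx
    exact absurd hx (by decide)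

end CfsgLib.Invol.JTwoType
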